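import Cfsg.Agent.Twisted.Groups.E6Inst
import Cfsg.Agent.Twisted.Fixed
import Cfsg.Agent.KnownSimple.Steinberg.SLE6
import Cfsg.Agent.Chev54.E6Deg.Data
import Cfsg.Agent.Chev54.RootMove.Faithful

/-!
Orbit elements of `²E₆(q)`, the additive character on the big field, and conjugation of root elements.
-/

set_option autoImplicit false

noncomputable section

namespace Cfsg.Agent.TwE6Deg54

open Cfsg.Lie Cfsg.Agent.ChevCore Cfsg.Agent.KnownSimple.Steinberg Cfsg.Agent.RootMove54 Cfsg.Agent.ChevGroup
open Cfsg.Agent.Twisted (genG qpow_hom)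
open Cfsg.Agent.Twisted.TypeE6 (MT PP fd frame₀)

/-- roots -/
abbrev R : Type := Rt chevE6

/-- the symmetry -/
def sg (r : R) : R := fd.O.rho r

/-- the sign of the symmetry at a root -/
def ee (r : R) : ℤ := PP.ef r.val

/-- facts on the symmetry -/
def sgB (r : R) : Bool :=
  decide (sg (sg r) = r) && decide (ee r * ee (sg r) = 1) && decide (ee r * ee r = 1) &&
    decide (r.val ≠ nng chevE6 (sg r).val) && decide (ent chevE6 r (sg r) = none) &&
    decide (ent chevE6 (sg r) r = none) && (decide (sg r ≠ r) || decide (ee r = 1))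

theorem sgB_all : (List.finRange chevE6.nroots).all sgB = true := by decide +kernel

theorem sg_facts (r : R) : sg (sg r) = r ∧ ee r * ee (sg r) = 1 ∧ ee r * ee r = 1 ∧
    r.val ≠ chevE6.neg (sg r).val ∧ ent chevE6 r (sg r) = none ∧ ent chevE6 (sg r) r = none ∧
    (sg r = r → ee r = 1) := by
  have h := List.all_eq_true.1 sgB_all r (List.mem_finRange r)
  simp only [sgB, Bool.and_eq_true, Bool.or_eq_true, decide_eq_true_eq, nng_eq] at h
  exact ⟨h.1.1.1.1.1.1, h.1.1.1.1.1.2, h.1.1.1.1.2, h.1.1.1.2, h.1.1.2, h.1.2,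
    fun e => h.2.resolve_left fun n => n e⟩

theorem lf_all : ∀ r : R, ChevIsogeny.IsoData.lf PP r.val = 1 := by decide +kernel

universe u

variable {F : Type u} [Field F] [Fintype F] {q : ℕ} (hq : IsPrimePow q) (hK : Fintype.card F = q ^ 2)

/-- the relations -/
noncomputable abbrev KE (F : Type u) [Field F] : Rels chevE6 F := relsOfCommGood ChevCore.commGoodE6 F

/-- the twisted group -/
noncomputable abbrev G₁ (F : Type u) [Field F] (q : ℕ) : Subgroup ↥(chevE6.group F) :=
  genG MT (KE F) (e6Words F q)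

/-- a root element -/
abbrev XX (r : R) (t : F) : ↥(chevE6.group F) := X sldE6 r t

omit [Fintype F] in
theorem xl (r : R) (t : F) : (MT.rel (KE F)).x r t = XX r t := by
  apply Subtype.ext; apply Units.ext
  show chevE6.x F r.val t = _
  exact (sldE6.good.toGood.val_xg r.val t).symm

include hq hK

theorem q_add (a b : F) : (a + b) ^ q = a ^ q + b ^ q := (qpow_hom hq hK).1 a b

theorem q_int (z : ℤ) : (z : F) ^ q = z := (qpow_hom hq hK).2.1 z

theorem q_q (a : F) : (a ^ q) ^ q = a := by
  rw [← pow_mul, ← pow_two]; exact (qpow_hom hq hK).2.2 a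

theorem q_neg (a : F) : (-a) ^ q = -a ^ q := by
  refine eq_neg_of_add_eq_zero_left ?_
  rw [← q_add hq hK, neg_add_cancel, zero_pow hq.pos.ne']

/-- the Frobenius twisted map -/
def sig : ↥(chevE6.group F) →* ↥(chevE6.group F) := (frame₀ hq hK).σ

theorem sig_X (r : R) (t : F) : sig hq hK (XX r t) = XX (sg r) ((ee r : F) * t ^ q) := by
  have h := (frame₀ hq hK).σ_x r t
  have hl : ChevIsogeny.IsoHyp.lam PP q r.val = q := by
    show ChevIsogeny.IsoData.lf PP r.val * q = q
    rw [lf_all r, one_mul]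
  rw [hl] at h
  rw [← xl, ← xl]
  exact h

theorem sig_sig_X (r : R) (t : F) : sig hq hK (sig hq hK (XX r t)) = XX r t := by
  obtain ⟨h1, h2, -⟩ := sg_facts r
  rw [sig_X, sig_X, h1, mul_pow, q_int hq hK, q_q hq hK, ← mul_assoc, ← Int.cast_mul, mul_comm (ee _),
    h2, Int.cast_one, one_mul]

omit hq hK [Fintype F] in
theorem X_commute {r s : R} (hn : s.val ≠ chevE6.neg r.val) (h : ent chevE6 r s = none) (t u : F) :
    Commute (XX r t) (XX s u) := by
  have e := X_comm sldE6 r s hn h t u
  show _ * _ = _ * _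
  rw [mul_assoc, inv_mul_eq_iff_eq_mul] at e
  exact e.symm

omit hq hK [Fintype F] in
theorem XX_add (r : R) (t u : F) : XX r (t + u) = XX r t * XX r u := X_add sldE6 r t u

theorem X_sig_commute (r : R) (t u : F) : Commute (XX r t) (sig hq hK (XX r u)) := by
  obtain ⟨h1, -, -, h4, h5, h6, -⟩ := sg_facts r
  rw [sig_X]
  exact (X_commute h4 h6 _ _).symm

/-- orbit element -/
def EE (r : R) (t : F) : ↥(chevE6.group F) := XX r t * sig hq hK (XX r t)

theorem EE_fix (r : R) (t : F) : sig hq hK (EE hq hK r t) = EE hq hK r t := by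
  rw [EE, map_mul, sig_sig_X]
  exact (X_sig_commute hq hK r t t).symm.eq

theorem mem_of_sig {g : ↥(chevE6.group F)} (h : sig hq hK g = g) : g ∈ G₁ F q :=
  (Twisted.TypeE6.gens (frame₀ hq hK) hq hK).mem_of_fixed Twisted.TypeE6.long_ok (by decide +kernel)
    (by decide +kernel) h

theorem sig_of_mem {g : ↥(chevE6.group F)} (h : g ∈ G₁ F q) : sig hq hK g = g :=
  Twisted.TypeE6.fixed_gen (frame₀ hq hK) (qpow_hom hq hK).2.2 g h

/-- orbit element in the group -/
def Y (r : R) (t : F) : ↥(G₁ F q) := ⟨EE hq hK r t, mem_of_sig hq hK (EE_fix hq hK r t)⟩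

theorem EE_add (r : R) (t u : F) : EE hq hK r (t + u) = EE hq hK r t * EE hq hK r u := by
  rw [EE, EE, EE, XX_add, map_mul]
  exact Commute.mul_mul_mul_comm (X_sig_commute hq hK r u t) _ _

theorem Y_add (r : R) (t u : F) : Y hq hK r (t + u) = Y hq hK r t * Y hq hK r u :=
  Subtype.ext (EE_add hq hK r t u)

theorem Y_zero (r : R) : Y hq hK r 0 = 1 := by
  have h := Y_add hq hK r 0 0
  rw [add_zero] at h
  exact left_eq_mul.1 h

theorem EE_sg (r : R) (t : F) : EE hq hK (sg r) ((ee r : F) * t ^ q) = EE hq hK r t := by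
  rw [EE, EE, ← sig_X hq hK r t, sig_sig_X]
  exact (X_sig_commute hq hK r t t).symm.eq

theorem EE_small {r : R} (hr : sg r = r) (t : F) : EE hq hK r t = XX r (t + t ^ q) := by
  rw [EE, sig_X, hr, (sg_facts r).2.2.2.2.2.2 hr, Int.cast_one, one_mul, ← XX_add]

/-- trace to the fixed field is onto -/
theorem exists_trace {v : F} (hv : v ^ q = v) : ∃ x : F, x + x ^ q = v := by
  classical
  let T : F → F := fun x => x + x ^ q
  obtain ⟨x, hx⟩ : ∃ x, T x ≠ 0 := by
    by_contra hall
    push Not at hall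
    have hp : (Polynomial.X ^ q + Polynomial.X : Polynomial F) ≠ 0 := by
      intro h0
      have := congrArg (fun p => Polynomial.coeff p 1) h0
      simp [Polynomial.coeff_X_pow, (ne_of_gt hq.one_lt).symm] at this
    have hc := Polynomial.card_roots' (Polynomial.X ^ q + Polynomial.X : Polynomial F)
    have hsub : (Finset.univ : Finset F).val ≤ (Polynomial.X ^ q + Polynomial.X : Polynomial F).roots := by
      refine (Multiset.le_iff_subset Finset.univ.nodup).2 fun a _ => ?_
      rw [Polynomial.mem_roots hp]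
      show Polynomial.eval a _ = 0
      simp only [Polynomial.eval_add, Polynomial.eval_pow, Polynomial.eval_X]
      rw [add_comm]; exact hall a
    have hd : (Polynomial.X ^ q + Polynomial.X : Polynomial F).natDegree ≤ q :=
      (Polynomial.natDegree_add_le _ _).trans (max_le (Polynomial.natDegree_X_pow q).le
        (Polynomial.natDegree_X.le.trans hq.one_lt.le))
    have := (Multiset.card_le_card hsub).trans (hc.trans hd)
    rw [← Finset.card_def, Finset.card_univ, hK, pow_two] at this
    have := hq.one_lt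
    nlinarith
  have hTq : (T x) ^ q = T x := by
    show (x + x ^ q) ^ q = x + x ^ q
    rw [q_add hq hK, q_q hq hK, add_comm]
  refine ⟨v / T x * x, ?_⟩
  rw [mul_pow, div_pow, hv, hTq, ← mul_add]
  exact div_mul_cancel₀ v hx

/-- a fixed root element in the group is an orbit element -/
theorem small_mem {r : R} (hr : sg r = r) {v : F} (h : XX r v ∈ G₁ F q) :
    ∃ x : F, XX r v = EE hq hK r x := by
  have h1 := sig_of_mem hq hK h
  rw [sig_X, hr, (sg_facts r).2.2.2.2.2.2 hr, Int.cast_one, one_mul, ← xl, ← xl] at h1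
  obtain ⟨x, hx⟩ := exists_trace hq hK ((frame₀ hq hK).iso.x_injective r h1)
  exact ⟨x, by rw [EE_small hq hK hr, hx]⟩

end Cfsg.Agent.TwE6Deg54
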