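import Cfsg.Agent.Chev54.TwE6Deg.Data

/-!
The checks on the certificates in type ²E6.
-/

set_option autoImplicit false
set_option maxRecDepth 100000

noncomputable section

namespace Cfsg.Agent.TwE6Deg54

open Cfsg.Lie Cfsg.Agent.RootMove54

/-- first components -/
def rootsOf (l : List (R × List (R × R))) : List R := l.map Prod.fst

/-- two lists with the same members -/
def sameB (a b : List R) : Bool := (a.all fun x => decide (x ∈ b)) && b.all fun x => decide (x ∈ a)

theorem sameB_iff {a b : List R} (h : sameB a b = true) : ∀ x, x ∈ a ↔ x ∈ b := by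
  simp only [sameB, Bool.and_eq_true, List.all_eq_true, decide_eq_true_eq] at h
  exact fun x => ⟨h.1 x, h.2 x⟩

/-- the checks at the centre -/
def centerB : Bool :=
  splitB [] [] [71] && splitB [] [71] (trans.map Prod.snd) && stepsB P1 [] 71 [] trans &&
    sameB (ext [71] (trans.map Prod.snd)) P1 && (trans.all fun p => decide (p.2 ∈ P1) && decide (sg p.2 ∈ P1)) &&
    decide (wsum (trans.map Prod.snd) = 10) && decide (sg (71 : R) = 71)

theorem center_cert : centerB = true := by decide +kernel

/-- residual entries only use zeros seen earlier -/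
def seenB : List R → List (R × List R × R × R) → Bool
  | _, [] => true
  | seen, (e, z, _, _) :: l => (z.all fun x => decide (x ∈ seen)) && seenB (orb e ++ seen) l

/-- the checks at the radical -/
def radB : Bool :=
  splitB [71] [46, 71] others && sameB (ext [46, 71] others) P2 && stepsB P2 [71] 46 [] kill &&
    stepsB (killP ++ [46, 71]) [71] 46 [] kill &&
    splitB [71] [46, 71] (kill.map Prod.snd) && decide (wsum (kill.map Prod.snd) = 9) &&
    sameB killP ((kill.map Prod.snd).flatMap orb) &&
    (kill.all fun p => decide (p.2 ∈ P2) && decide (sg p.2 ∈ P2)) &&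
    seenB [] res &&
    (P2.all fun x => decide (x ∈ [46, 71] ∨ x ∈ killP ∨ x ∈ res.flatMap fun e => orb e.1)) &&
    (res.all fun (e, z, r, s) => decide (e ∈ P2) && decide (sg e ∈ P2) &&
      stepsB P2 (killP ++ z ++ [71]) e [46] [(r, s)] && splitB [71] (killP ++ [46, 71]) [s] &&
      decide (s ∈ P2) && decide (sg s ∈ P2) && decide (1 ≤ wt s)) &&
    pathB P2 [71] [46] path && cellsB P2 [71] (fun u => [u]) [] cells2 &&
    sameB (cellsEnd [] cells2 ++ [71]) P2 &&
    (cells2.all fun e => decide (sg e.1 ≠ e.1) || decide (e.1 ∈ pathEnd [46] path)) &&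
    decide (sg (46 : R) = 46) && (killP.all fun x => decide (x ∈ P2))

theorem rad_cert : radB = true := by decide +kernel

/-- the allowed support at a root -/
def supF (u : R) : List R := (sup3.lookup u).getD []

/-- roots moving the middle root to `u` -/
def movB (u r : R) : Bool :=
  stableB (R3 ++ P2) P2 r && decide (u ∈ R3) && decide (u ≠ 39) &&
  (match ent chevE6 r u with
    | none => false
    | some (c, _) => decide (c ≠ 39) &&
      (match ent chevE6 (sg r) c with | none => false | some (d, _) => decide (d = 39))) &&
  (match ent chevE6 (sg r) u with | none => true | some (c', _) => decide (c' ≠ 39)) &&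
  ((R3 ++ P2).all fun x => decide (x ∈ supF u) || (decide (x ≠ 39) && (nbrs r x).all fun y => decide (y ≠ 39)))

/-- the checks at the middle node -/
def midB : Bool :=
  cellsB (R3 ++ P2) P2 supF [] cells3 &&
    (cells3.all fun e => decide (sg e.1 ≠ e.1) || decide (e.1 = 39) || mov.any fun p => decide (p.1 = e.1)) &&
    (mov.all fun p => movB p.1 p.2) && decide ((39 : R) ∉ P2) &&
    ((R3 ++ P2).all fun x => decide (x ∈ pos)) && decide ((39 : R) ∈ supF 39)

theorem mid_cert : midB = true := by decide +kernel

/-- the checks on the adjacent pair -/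
def gapB : Bool :=
  halfZ.check && halfO.check && halfN.check &&
    splitB halfN.P halfN.P [46] && sameB (orb 46 ++ halfN.P) pos &&
    splitB halfO.P halfO.P [39] && sameB (orb 39 ++ halfO.P) pos

theorem gap_cert : gapB = true := by decide +kernel

/-- a root fixed with the character as a commutator -/
def stabB : R × R × R → Bool
  | (b, r, s) => decide (s.val ≠ nng chevE6 r.val) && decide (s.val ≠ nng chevE6 (sg r).val) &&
    decide (b.val ≠ nng chevE6 (sg r).val) && decide (ent chevE6 (sg r) s = none) &&
    decide (ent chevE6 (sg r) b = none) &&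
    (match ent chevE6 r s with | none => false | some (c, _) => decide (c = b)) && cmL [s, b] &&
    stableB P2 [71] r && stableB P2 [71] s &&
    (P2.all fun y => ((nbrs r y).all fun z => decide (z ≠ 46)) && ((nbrs s y).all fun z => decide (z ≠ 46)))

/-- every positive root is in the radical or fixed with the character -/
def posB : Bool :=
  stab.all stabB &&
    pos.all fun x => decide (x ∈ P2) ||
      (decide (x ≠ 46) && stab.any fun e => decide (x ∈ orb e.1))

theorem pos_cert : posB = true := by decide +kernel

end Cfsg.Agent.TwE6Deg54
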