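import Cfsg.Agent.Chev54.TwE6Deg.Word

/-!
Splitting along orbits, prescribed characters and counts of cells in `²E₆(q)`.
-/

set_option autoImplicit false
set_option linter.unusedSectionVars false

noncomputable section

namespace Cfsg.Agent.TwE6Deg54

open Cfsg.Lie Cfsg.Agent.ChevCore Cfsg.Agent.KnownSimple.Steinberg Cfsg.Agent.RootMove54 Cfsg.Agent.ChevGroup

universe u

/-- an orbit -/
def orb (r : R) : List R := [r, sg r]

/-- adjoin orbits -/
def ext : List R → List R → List R
  | P, [] => P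
  | P, r :: Rs => ext (orb r ++ P) Rs

/-- the degree of the parameter field of an orbit -/
def wt (r : R) : ℕ := if sg r = r then 1 else 2

/-- the total number of parameters -/
def wsum (Rs : List R) : ℕ := (Rs.map wt).sum

/-- all roots met from `s` other than itself -/
def nbrs (r s : R) : List R := (wds r s).tail

/-- `r` fixes every character vanishing on `Z` at the roots in `L` -/
def frozenB (Z : List R) (r : R) (L : List R) : Bool :=
  L.all fun x => (nbrs r x).all fun y => decide (y ∈ Z)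

/-- orbits that can be split off one by one -/
def splitB (Z : List R) : List R → List R → Bool
  | _, [] => true
  | P, r :: Rs => decide (r ∉ P) && decide (sg r ∉ P) && (Z.all fun z => decide (z ∈ P)) &&
      stableB P Z r && frozenB Z r P && splitB Z (orb r ++ P) Rs

/-- the image of a root, if any, lies in `Z` -/
def imgZ (Z : List R) (r x : R) : Bool :=
  match ent chevE6 r x with
  | none => true
  | some (c, _) => decide (c ∈ Z)

/-- moves from `u` to prescribed values at the targets -/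
def stepsB (P Z : List R) (u : R) : List R → List (R × R) → Bool
  | _, [] => true
  | K, (r, s) :: st => stableB P Z r &&
      (match ent chevE6 r s with | none => false | some (c, _) => decide (c = u)) &&
      imgZ Z (sg r) u && (decide (sg s = s) || imgZ Z (sg r) s) && decide (s ∈ P) && decide (sg s ∈ P) &&
      frozenB Z r (([u, sg u] ++ Z) ++ K) && stepsB P Z u ([s, sg s] ++ K) st

variable {F : Type u} [Field F] [Fintype F] {q : ℕ}

/-- set the value on an orbit -/
def updO (q : ℕ) (f : R → F) (r : R) (a : F) : R → F :=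
  Function.update (Function.update f (sg r) ((ee r : F) * a ^ q)) r a

theorem updO_self (f : R → F) (r : R) (a : F) : updO q f r a r = a := Function.update_self ..

theorem updO_sg (f : R → F) (r : R) (a : F) (h : sg r ≠ r) : updO q f r a (sg r) = (ee r : F) * a ^ q := by
  rw [updO, Function.update_of_ne h, Function.update_self]

theorem updO_ne (f : R → F) {r x : R} (a : F) (h1 : x ≠ r) (h2 : x ≠ sg r) : updO q f r a x = f x := by
  rw [updO, Function.update_of_ne h1, Function.update_of_ne h2]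

theorem updO_agree {P : List R} {r : R} (h1 : r ∉ P) (h2 : sg r ∉ P) (f : R → F) (a : F) :
    ∀ x ∈ P, updO q f r a x = f x :=
  fun x hx => updO_ne f a (by rintro rfl; exact h1 hx) (by rintro rfl; exact h2 hx)

theorem mem_ext {P Rs : List R} {x : R} :
    x ∈ ext P Rs ↔ x ∈ P ∨ ∃ r ∈ Rs, x = r ∨ x = sg r := by
  induction Rs generalizing P with
  | nil => simp [ext]
  | cons r Rs ih => simp [ext, ih, orb, or_assoc, or_comm, or_left_comm]

theorem mvY_fixed {Z : List R} {r s : R} (h : ∀ y ∈ nbrs r s, y ∈ Z) (t : F) {f : R → F}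
    (hZ : ∀ z ∈ Z, f z = 0) : mvY q r t f s = f s := by
  have h0 : ∀ y ∈ nbrs r s, f y = 0 := fun y hy => hZ y (h y hy)
  clear h hZ
  unfold mvY
  unfold nbrs wds img at h0
  rcases e : ent chevE6 r s with _ | ⟨c, z⟩
  · rw [Ctx.mvf_none e]
    rcases e' : ent chevE6 (sg r) s with _ | ⟨c', z'⟩
    · rw [Ctx.mvf_none e']
    · rw [e] at h0
      simp [e'] at h0
      simp [Ctx.mvf_some e', h0]
  · rw [Ctx.mvf_some e]
    rw [e] at h0
    rcases e' : ent chevE6 (sg r) s with _ | ⟨c', z'⟩ <;>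
      rcases e'' : ent chevE6 (sg r) c with _ | ⟨d, z''⟩ <;>
      simp [e', e''] at h0 <;>
      simp [Ctx.mvf, e', e'', h0]

/-- admissible values on an orbit -/
def adm (q : ℕ) (r : R) : Finset F := by
  classical exact Finset.univ.filter fun a => sg r = r → a ^ q = a

theorem mem_adm {r : R} {a : F} : a ∈ (adm q r : Finset F) ↔ (sg r = r → a ^ q = a) := by simp [adm]

theorem card_adm (hq : IsPrimePow q) (hK : Fintype.card F = q ^ 2) (r : R) :
    (adm q r : Finset F).card = q ^ wt r := by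
  classical
  unfold wt
  by_cases h : sg r = r
  · have e : (adm q r : Finset F) = Finset.univ.filter fun a => a ^ q = a := by
      ext a; simp [mem_adm, h]
    rw [if_pos h, pow_one, e, ← Fintype.card_subtype, Fintype.card_eq_nat_card]
    exact Twisted.card_fixed_pow (F := F) hq.one_lt hK
  · have e : (adm q r : Finset F) = Finset.univ := by ext a; simp [mem_adm, h]
    rw [if_neg h, e, Finset.card_univ, hK]

/-- a nonzero twisted-linear map into the fixed field is onto -/
theorem exists_value (hq : IsPrimePow q) (hK : Fintype.card F = q ^ 2) {A B : F} (hA : A ≠ 0)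
    (h : ∀ t : F, (A * t + B * t ^ q) ^ q = A * t + B * t ^ q) {w : F} (hw : w ^ q = w) :
    ∃ t : F, A * t + B * t ^ q = w := by
  classical
  obtain ⟨x, hx⟩ : ∃ x : F, A * x + B * x ^ q ≠ 0 := by
    by_contra hall
    push Not at hall
    set p : Polynomial F := Polynomial.C A * Polynomial.X + Polynomial.C B * Polynomial.X ^ q with hp0
    have hp : p ≠ 0 := by
      intro h0
      have := congrArg (fun p => Polynomial.coeff p 1) h0
      simp [hp0, Polynomial.coeff_X_pow, (ne_of_gt hq.one_lt).symm] at this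
      exact hA this
    have hd : p.natDegree ≤ q :=
      (Polynomial.natDegree_add_le _ _).trans (max_le
        ((Polynomial.natDegree_C_mul_le _ _).trans (Polynomial.natDegree_X.le.trans hq.one_lt.le))
        ((Polynomial.natDegree_C_mul_le _ _).trans (Polynomial.natDegree_X_pow q).le))
    have hsub : (Finset.univ : Finset F).val ≤ p.roots := by
      refine (Multiset.le_iff_subset Finset.univ.nodup).2 fun a _ => ?_
      rw [Polynomial.mem_roots hp]
      simpa [hp0, Polynomial.IsRoot] using hall a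
    have := (Multiset.card_le_card hsub).trans ((Polynomial.card_roots' p).trans hd)
    rw [← Finset.card_def, Finset.card_univ, hK, pow_two] at this
    have := hq.one_lt
    nlinarith
  set l := w / (A * x + B * x ^ q)
  have hl : l ^ q = l := by rw [div_pow, hw, h x]
  refine ⟨l * x, ?_⟩
  rw [mul_pow, hl]
  calc A * (l * x) + B * (l * x ^ q) = l * (A * x + B * x ^ q) := by ring
    _ = w := div_mul_cancel₀ w hx

/-- consistency of a prescription on targets -/
def Cons (q : ℕ) (a : R → F) (r : R) : Prop :=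
  a (sg r) = (ee r : F) * a r ^ q ∧ (sg r = r → a r ^ q = a r)

namespace TCtx

variable {k : ℕ} (C : TCtx F q k)

theorem mf_mono {P P' : List R} {f g : R → F} (h : ∀ s ∈ P, s ∈ P' ∧ g s = f s) :
    C.mf P' g ≤ C.mf P f :=
  Submodule.finrank_mono fun x hx s hs u => by rw [C.mem_eig.1 hx s (h s hs).1 u, (h s hs).2]

theorem mf_congr {P P' : List R} {f g : R → F} (hP : ∀ s, s ∈ P ↔ s ∈ P')
    (h : ∀ s ∈ P, f s = g s) : C.mf P f = C.mf P' g :=
  le_antisymm (C.mf_mono fun s hs => ⟨(hP s).2 hs, h s ((hP s).2 hs)⟩)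
    (C.mf_mono fun s hs => ⟨(hP s).1 hs, (h s hs).symm⟩)

theorem mf_nil (f : R → F) : C.mf [] f = k := by
  have : C.eig [] f = ⊤ := by ext x; simp [mem_eig]
  rw [mf, this, finrank_top, Module.finrank_fin_fun]

theorem eq_of_char {a b : F} (h : ∀ u, C.ψ (a * u) = C.ψ (b * u)) : a = b := by
  by_contra hne
  refine C.hψ (sub_ne_zero.2 hne) (DFunLike.ext _ _ fun u => ?_)
  rw [AddChar.mulShift_apply, AddChar.one_apply, sub_mul, AddChar.map_sub_eq_div, h u]
  exact div_self (AddChar.val_isUnit C.ψ _).ne_zero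

theorem smul_inj {x : Fin k → ℂ} (hx : x ≠ 0) {a b : ℂ} (h : a • x = b • x) : a = b := by
  have : (a - b) • x = 0 := by rw [sub_smul, h, sub_self]
  exact sub_eq_zero.1 ((smul_eq_zero.1 this).resolve_right hx)

theorem psi_twist (a u : F) (z : ℤ) : C.ψ (a * ((z : F) * u ^ q)) = C.ψ ((z : F) * a ^ q * u) := by
  rw [← C.frob, mul_pow, mul_pow, q_int C.hq C.hK, q_q C.hq C.hK]
  congr 1; ring

/-- characters that occur are fixed by the symmetry -/
theorem cons_of_pos {P : List R} {f : R → F} (h : 1 ≤ C.mf P f) {r : R} (hr : r ∈ P) (hr' : sg r ∈ P) :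
    Cons q f r := by
  obtain ⟨x, hx, hx0⟩ := Submodule.exists_mem_ne_zero_of_ne_bot (Submodule.one_le_finrank_iff.1 h)
  have e : f r = (ee r : F) * f (sg r) ^ q := by
    refine C.eq_of_char fun u => ?_
    rw [← C.psi_twist]
    refine smul_inj hx0 ?_
    rw [← hx r hr u, ← hx (sg r) hr' _]
    exact congrArg (fun g => C.ρ g x) (Subtype.ext (EE_sg C.hq C.hK r u).symm)
  refine ⟨?_, fun hs => ?_⟩
  · rw [e, mul_pow, q_int C.hq C.hK, q_q C.hq C.hK, ← mul_assoc, ← Int.cast_mul, (sg_facts r).2.2.1,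
      Int.cast_one, one_mul]
  · conv_rhs => rw [e, hs, (sg_facts r).2.2.2.2.2.2 hs, Int.cast_one, one_mul]

theorem inv_of_frozen {Z P : List R} {r : R} (h : stableB P Z r = true) (h' : frozenB Z r P = true)
    {f : R → F} (hf : ∀ z ∈ Z, f z = 0) (t : F) {x : Fin k → ℂ} (hx : x ∈ C.eig P f) :
    C.ρ (C.yy r t) x ∈ C.eig P f := by
  intro s hs u
  simp only [frozenB, List.all_eq_true, decide_eq_true_eq] at h'
  rw [C.move_mem h hf hx s hs u, mvY_fixed (h' s hs) t hf]

/-- splitting along an orbit -/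
theorem finrank_split (r : R) (P : List R) (f : R → F) (hr : r ∉ P) (hr' : sg r ∉ P)
    (hU : ∀ u, ∀ x ∈ C.eig P f, C.ρ (C.yy r u) x ∈ C.eig P f) :
    C.mf P f = ∑ a : F, C.mf (orb r ++ P) (updO q f r a) := by
  classical
  have hqc : (Fintype.card F : ℂ) ≠ 0 := Nat.cast_ne_zero.mpr Fintype.card_ne_zero
  set U := C.eig P f with hUdef
  let W : F → Module.End ℂ U := fun u => (C.ρ (C.yy r u)).restrict (hU u)
  have hWv : ∀ u (x : U), (W u x : Fin k → ℂ) = C.ρ (C.yy r u) x := fun u x => rfl
  let Q : F → Module.End ℂ U := fun a =>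
    (Fintype.card F : ℂ)⁻¹ • ∑ u : F, C.ψ (-(a * u)) • W u
  have hQ : ∀ a (x : U), (Q a x : Fin k → ℂ) =
      (Fintype.card F : ℂ)⁻¹ • ∑ u : F, C.ψ (-(a * u)) • C.ρ (C.yy r u) x := by
    intro a x
    simp [Q, hWv]
  have hE : ∀ a x, x ∈ C.eig (orb r ++ P) (updO q f r a) ↔
      x ∈ U ∧ ∀ u, C.ρ (C.yy r u) x = C.ψ (a * u) • x := by
    intro a x
    refine ⟨fun h => ⟨fun s hs u => ?_, fun u => ?_⟩, fun h s hs u => ?_⟩
    · rw [h s (List.mem_append_right _ hs) u, updO_agree hr hr' f a s hs]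
    · rw [h r (by simp [orb]) u, updO_self]
    · rcases List.mem_append.1 hs with hs | hs
      swap
      · rw [h.1 s hs u, updO_agree hr hr' f a s hs]
      simp only [orb, List.mem_cons, List.not_mem_nil, or_false] at hs
      rcases hs with rfl | rfl
      · rw [h.2 u, updO_self]
      by_cases hsm : sg r = r
      · rw [hsm, h.2 u, updO_self]
      obtain ⟨h1, h2, h3, -⟩ := sg_facts r
      have e : (ee (sg r) : F) = (ee r : F) := by
        have e0 : (ee (sg r) : F) * ((ee r : F) * (ee r : F)) = (ee r : F) := by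
          rw [← mul_assoc, ← Int.cast_mul, mul_comm (ee _), h2, Int.cast_one, one_mul]
        rwa [← Int.cast_mul, h3, Int.cast_one, mul_one] at e0
      have hY : C.yy (sg r) u = C.yy r ((ee r : F) * u ^ q) := by
        refine Subtype.ext ?_
        show EE C.hq C.hK (sg r) u = EE C.hq C.hK r _
        rw [← EE_sg C.hq C.hK (sg r) u, h1, e]
      rw [hY, h.2, updO_sg f r a hsm, C.psi_twist]
  have hmem : ∀ a (x : U), (Q a x : Fin k → ℂ) ∈ C.eig (orb r ++ P) (updO q f r a) := by
    intro a x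
    refine (hE a _).2 ⟨(Q a x).2, fun v => ?_⟩
    rw [hQ, map_smul, map_sum, smul_comm (C.ψ (a * v))]
    refine congrArg _ ?_
    rw [Finset.smul_sum]
    refine Fintype.sum_equiv (Equiv.addLeft v) _ _ fun u => ?_
    rw [Equiv.coe_addLeft, map_smul, ← C.apply_mul, ← Y_add, smul_smul, ← AddChar.map_add_eq_mul]
    congr 2
    ring
  have hfix : ∀ a (x : U), (x : Fin k → ℂ) ∈ C.eig (orb r ++ P) (updO q f r a) → Q a x = x := by
    intro a x hx
    apply Subtype.ext
    rw [hQ]
    have : ∀ u : F, C.ψ (-(a * u)) • C.ρ (C.yy r u) (x : Fin k → ℂ) = (x : Fin k → ℂ) := fun u => by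
      rw [((hE a _).1 hx).2 u, smul_smul, ← AddChar.map_add_eq_mul, neg_add_cancel,
        AddChar.map_zero_eq_one, one_smul]
    rw [Finset.sum_congr rfl fun u _ => this u, Finset.sum_const, Finset.card_univ,
      ← Nat.cast_smul_eq_nsmul ℂ, inv_smul_smul₀ hqc]
  have hproj : ∀ a, LinearMap.IsProj
      (Submodule.comap U.subtype (C.eig (orb r ++ P) (updO q f r a))) (Q a) := fun a =>
    ⟨fun x => hmem a x, fun x hx => hfix a x hx⟩
  have hsum : ∑ a : F, Q a = LinearMap.id := by
    apply LinearMap.ext; intro x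
    apply Subtype.ext
    rw [LinearMap.sum_apply, Submodule.coe_sum, LinearMap.id_apply]
    simp_rw [hQ, ← Finset.smul_sum]
    rw [Finset.sum_comm]
    have : ∀ u : F, (∑ a : F, C.ψ (-(a * u)) • C.ρ (C.yy r u) (x : Fin k → ℂ)) =
        if u = 0 then (Fintype.card F : ℂ) • (x : Fin k → ℂ) else 0 := by
      intro u
      rw [← Finset.sum_smul]
      have e : ∑ a : F, C.ψ (-(a * u)) = if -u = 0 then (Fintype.card F : ℂ) else 0 := by
        have e0 := AddChar.sum_mulShift (-u) C.hψ
        simpa [mul_neg] using e0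
      rw [e]
      by_cases hu : u = 0
      · subst hu; rw [if_pos neg_zero, if_pos rfl, TCtx.yy, Y_zero, map_one]; rfl
      · rw [if_neg (neg_ne_zero.mpr hu), if_neg hu, zero_smul]
    rw [Finset.sum_congr rfl fun u _ => this u, Finset.sum_ite_eq', if_pos (Finset.mem_univ _),
      inv_smul_smul₀ hqc]
  have htr : (Module.finrank ℂ U : ℂ) =
      ∑ a : F, (C.mf (orb r ++ P) (updO q f r a) : ℂ) := by
    rw [← LinearMap.trace_id ℂ U, ← hsum, map_sum]
    refine Finset.sum_congr rfl fun a _ => ?_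
    have : FiniteDimensional ℂ U := inferInstance
    rw [trace_proj (hproj a)]
    congr 1
    exact (Submodule.comapSubtypeEquivOfLe fun x hx => ((hE a x).1 hx).1).finrank_eq
  exact_mod_cast htr

theorem zero_of_not_adm (r : R) (P : List R) (f : R → F) {a : F} (ha : a ∉ adm q r) :
    C.mf (orb r ++ P) (updO q f r a) = 0 := by
  by_contra h0
  have h := C.cons_of_pos (P := orb r ++ P) (f := updO q f r a) (by omega) (r := r) (by simp [orb]) (by simp [orb])
  exact ha (mem_adm.2 fun hs => by simpa [updO_self] using h.2 hs)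

theorem split_one {Z P : List R} {r : R} {Rs : List R} (h : splitB Z P (r :: Rs) = true) {f : R → F}
    (hf : ∀ z ∈ Z, f z = 0) :
    C.mf P f = ∑ a ∈ adm q r, C.mf (orb r ++ P) (updO q f r a) := by
  simp only [splitB, Bool.and_eq_true, decide_eq_true_eq, List.all_eq_true] at h
  obtain ⟨⟨⟨⟨⟨hr, hr'⟩, -⟩, hst⟩, hfr⟩, -⟩ := h
  rw [C.finrank_split r P f hr hr' fun u x hx => C.inv_of_frozen hst hfr hf u hx]
  exact (Finset.sum_subset (Finset.subset_univ _) fun a _ ha => C.zero_of_not_adm r P f ha).symm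

theorem splitB_tail {Z P : List R} {r : R} {Rs : List R} (h : splitB Z P (r :: Rs) = true) :
    splitB Z (orb r ++ P) Rs = true ∧ r ∉ P ∧ sg r ∉ P ∧ ∀ z ∈ Z, z ∈ P := by
  simp only [splitB, Bool.and_eq_true, decide_eq_true_eq, List.all_eq_true] at h
  obtain ⟨⟨⟨⟨⟨hr, hr'⟩, hz⟩, -⟩, -⟩, h'⟩ := h
  exact ⟨h', hr, hr', hz⟩

theorem ext_mono {P P' : List R} (h : ∀ x ∈ P, x ∈ P') (Rs : List R) : ∀ x ∈ ext P Rs, x ∈ ext P' Rs := by
  intro x hx; rw [mem_ext] at hx ⊢; exact hx.imp_left (h x)

theorem split_lower {Z : List R} (Rs : List R) :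
    ∀ (P : List R) (f : R → F), splitB Z P Rs = true → (∀ z ∈ Z, f z = 0) → ∀ c : ℕ,
      (∀ g : R → F, (∀ x ∈ P, g x = f x) → (∀ r ∈ Rs, Cons q g r) → c ≤ C.mf (ext P Rs) g) →
      q ^ wsum Rs * c ≤ C.mf P f := by
  induction Rs with
  | nil => intro P f _ _ c h; simpa [wsum, ext] using h f (fun _ _ => rfl) (by simp)
  | cons r Rs ih =>
    intro P f hB hf c h
    obtain ⟨hB', hr, hr', hZ⟩ := splitB_tail hB
    rw [C.split_one hB hf]
    calc q ^ wsum (r :: Rs) * c = ∑ _a ∈ (adm q r : Finset F), q ^ wsum Rs * c := by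
          rw [Finset.sum_const, card_adm C.hq C.hK, smul_eq_mul, wsum, List.map_cons, List.sum_cons, pow_add,
            mul_assoc]; rfl
      _ ≤ _ := Finset.sum_le_sum fun a ha => by
          refine ih _ _ hB' (fun z hz => by rw [updO_agree hr hr' f a z (hZ z hz), hf z hz]) c fun g hg hc => ?_
          refine h g (fun x hx => by rw [hg x (List.mem_append_right _ hx), updO_agree hr hr' f a x hx]) ?_
          intro s hs
          rcases List.mem_cons.1 hs with rfl | hs
          swap
          · exact hc s hs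
          have e1 : g s = a := by rw [hg s (by simp [orb]), updO_self]
          refine ⟨?_, fun hsm => by rw [e1]; exact mem_adm.1 ha hsm⟩
          by_cases hsm : sg s = s
          · rw [hsm, e1, mem_adm.1 ha hsm, (sg_facts s).2.2.2.2.2.2 hsm, Int.cast_one, one_mul]
          · rw [hg (sg s) (by simp [orb]), updO_sg f s a hsm, e1]

/-- some extension occurs -/
theorem exists_ext {Z : List R} (Rs : List R) :
    ∀ (P : List R) (f : R → F), splitB Z P Rs = true → (∀ z ∈ Z, f z = 0) → 1 ≤ C.mf P f →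
      ∃ g : R → F, (∀ x ∈ P, g x = f x) ∧ 1 ≤ C.mf (ext P Rs) g := by
  induction Rs with
  | nil => intro P f _ _ h; exact ⟨f, fun _ _ => rfl, h⟩
  | cons r Rs ih =>
    intro P f hB hf h
    obtain ⟨hB', hr, hr', hZ⟩ := splitB_tail hB
    rw [C.split_one hB hf] at h
    obtain ⟨a, -, ha⟩ := Finset.exists_ne_zero_of_sum_ne_zero (Nat.one_le_iff_ne_zero.1 h)
    obtain ⟨g, hg, hg'⟩ := ih _ _ hB' (fun z hz => by rw [updO_agree hr hr' f a z (hZ z hz), hf z hz])
      (Nat.one_le_iff_ne_zero.2 ha)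
    exact ⟨g, fun x hx => by rw [hg x (List.mem_append_right _ hx), updO_agree hr hr' f a x hx], hg'⟩

/-- prescribed values at the targets -/
theorem lift {P Z : List R} {u : R} {c0 : ℕ} (hc0 : 1 ≤ c0) (st : List (R × R)) :
    ∀ (K : List R) (f : R → F), stepsB P Z u K st = true → (∀ z ∈ Z, f z = 0) → f u ≠ 0 →
      c0 ≤ C.mf P f → ∀ a : R → F, (∀ p ∈ st, Cons q a p.2) → ∃ g : R → F, c0 ≤ C.mf P g ∧
        (∀ x ∈ ([u, sg u] ++ Z) ++ K, g x = f x) ∧ ∀ p ∈ st, g p.2 = a p.2 ∧ g (sg p.2) = a (sg p.2) := by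
  induction st with
  | nil => intro K f _ _ _ hc a _; exact ⟨f, hc, fun _ _ => rfl, by simp⟩
  | cons p st ih =>
    obtain ⟨r, s⟩ := p
    intro K f hB hf hu hc a ha
    simp only [stepsB, Bool.and_eq_true, Bool.or_eq_true, decide_eq_true_eq] at hB
    obtain ⟨⟨⟨⟨⟨⟨⟨hst, he⟩, hd⟩, hc'⟩, hsP⟩, hsP'⟩, hfr⟩, hB'⟩ := hB
    simp only [frozenB, List.all_eq_true, decide_eq_true_eq] at hfr
    rcases e : ent chevE6 r s with _ | ⟨c, z⟩
    · rw [e] at he; simp at he
    rw [e] at he
    obtain rfl : c = u := of_decide_eq_true he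
    obtain ⟨-, hz⟩ := ent_some sldE6 e
    set A : F := -((z : F) * f c) with hA
    have hA0 : A ≠ 0 := neg_ne_zero.2 (mul_ne_zero (cast_sign_ne_zero hz) hu)
    obtain ⟨B, hB0, hBs⟩ : ∃ B : F, (sg s ≠ s → B = 0) ∧ ∀ t : F,
        mvY q r t f s = f s + A * t + B * t ^ q := by
      have hd' : ∀ t : F, Ctx.mvf (sg r) ((ee r : F) * t ^ q) f c = f c := by
        intro t
        unfold imgZ at hd
        rcases ed : ent chevE6 (sg r) c with _ | ⟨d, zd⟩
        · exact Ctx.mvf_none ed _ f
        · rw [ed] at hd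
          rw [Ctx.mvf_some ed, hf d (of_decide_eq_true hd), mul_zero, neg_zero, add_zero]
      unfold imgZ at hc'
      rcases es : ent chevE6 (sg r) s with _ | ⟨c', z'⟩
      · refine ⟨0, fun _ => rfl, fun t => ?_⟩
        rw [mvY, Ctx.mvf_some e, hd', Ctx.mvf_none es, hA]; ring
      · refine ⟨-((z' : F) * (ee r : F) * f c'), fun hs => ?_, fun t => ?_⟩
        · rw [es] at hc'
          simp only [hf c' (of_decide_eq_true (hc'.resolve_left hs)), mul_zero, neg_zero]
        · rw [mvY, Ctx.mvf_some e, hd', Ctx.mvf_some es, hA]; ring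
    obtain ⟨t, ht⟩ : ∃ t : F, mvY q r t f s = a s := by
      by_cases hs : sg s = s
      · have hfs := (C.cons_of_pos (hc0.trans hc) hsP hsP').2 hs
        have hlin : ∀ t : F, (A * t + B * t ^ q) ^ q = A * t + B * t ^ q := by
          intro t
          have h1 := (C.cons_of_pos (hc0.trans (hc.trans (C.mf_le_mvY hst t hf))) hsP hsP').2 hs
          rw [hBs, add_assoc, q_add C.hq C.hK, hfs] at h1
          exact add_left_cancel h1
        obtain ⟨t, ht⟩ := exists_value C.hq C.hK hA0 hlin (w := a s - f s) (by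
          rw [sub_eq_add_neg, q_add C.hq C.hK, q_neg C.hq C.hK, (ha (r, s) List.mem_cons_self).2 hs, hfs])
        exact ⟨t, by rw [hBs, add_assoc, ht, add_sub_cancel]⟩
      · refine ⟨(a s - f s) / A, ?_⟩
        rw [hBs, hB0 hs, mul_div_cancel₀ _ hA0]
        ring
    have hfix : ∀ x ∈ ([c, sg c] ++ Z) ++ K, mvY q r t f x = f x := fun x hx => mvY_fixed (hfr x hx) t hf
    have hu' : mvY q r t f c = f c := hfix c (by simp)
    obtain ⟨g, hg1, hg2, hg3⟩ := ih ([s, sg s] ++ K) (mvY q r t f) hB'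
      (fun x hx => by rw [hfix x (by simp [hx]), hf x hx]) (by rw [hu']; exact hu)
      (hc.trans (C.mf_le_mvY hst t hf)) a (fun p hp => ha p (List.mem_cons_of_mem _ hp))
    refine ⟨g, hg1, fun x hx => ?_, ?_⟩
    · rw [hg2 x ?_, hfix x hx]
      simp only [List.mem_append, List.mem_cons] at hx ⊢
      tauto
    · intro p hp
      rcases List.mem_cons.1 hp with rfl | hp
      · have hgs : g s = a s := by rw [hg2 s (by simp), ht]
        exact ⟨hgs, by rw [(C.cons_of_pos (hc0.trans hg1) hsP hsP').1, hgs, ← (ha (r, s) List.mem_cons_self).1]⟩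
      · exact hg3 p hp

/-- the count of the characters with leading root `u` -/
theorem cell_bound {Z P : List R} {u : R} {st : List (R × R)} {K : List R}
    {Z' P' : List R} {c0 : ℕ} {f : R → F} (hc0 : 1 ≤ c0)
    (hsp : splitB Z' P' (st.map Prod.snd) = true) (hstep : stepsB P Z u K st = true)
    (hP' : P'.all (fun x => decide (x ∈ ([u, sg u] ++ Z) ++ K) && decide (x ∈ P)) = true)
    (hT : st.all (fun p => decide (p.2 ∈ P) && decide (sg p.2 ∈ P)) = true)
    (hf : ∀ z ∈ Z, f z = 0) (hf' : ∀ z ∈ Z', f z = 0) (hu : f u ≠ 0) (hc : c0 ≤ C.mf P f) :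
    q ^ wsum (st.map Prod.snd) * c0 ≤ C.mf P' f := by
  simp only [List.all_eq_true, Bool.and_eq_true, decide_eq_true_eq] at hP' hT
  refine C.split_lower (st.map Prod.snd) P' f hsp hf' c0 fun g hg hcons => ?_
  obtain ⟨h, hh1, hh2, hh3⟩ := C.lift hc0 st K f hstep hf hu hc g fun p hp => hcons _ (List.mem_map_of_mem hp)
  refine hh1.trans (C.mf_mono fun x hx => ?_)
  rcases mem_ext.1 hx with hx | ⟨s, hs, hxs⟩
  · exact ⟨(hP' x hx).2, by rw [hh2 x (hP' x hx).1, hg x hx]⟩
  · obtain ⟨p, hp, rfl⟩ := List.mem_map.1 hs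
    rcases hxs with rfl | rfl
    · exact ⟨(hT p hp).1, (hh3 p hp).1⟩
    · exact ⟨(hT p hp).2, (hh3 p hp).2⟩

end TCtx

end Cfsg.Agent.TwE6Deg54
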