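import Cfsg.Agent.Chev54.TwE6Deg.Moves

/-!
Certificates for the three levels in type ²E6, generated from the table of `Def_ChevE6`.
-/

set_option autoImplicit false
set_option maxRecDepth 100000

noncomputable section

namespace Cfsg.Agent.TwE6Deg54

open Cfsg.Lie Cfsg.Agent.RootMove54

/-- the positive roots -/
def pos : List R := [36, 37, 38, 39, 40, 41, 42, 43, 44, 45, 46, 47, 48, 49, 50, 51, 52, 53, 54, 55, 56, 57, 58, 59, 60, 61, 62, 63, 64, 65, 66, 67, 68, 69, 70, 71]

/-- an abelian half of the radical with the centre -/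
def P1 : List R := [53, 54, 55, 64, 65, 66, 67, 68, 69, 70, 71]

/-- translations of the half -/
def trans : List (R × R) := [(63, 53), (62, 54), (61, 55), (51, 65), (50, 66), (47, 69), (46, 70)]

/-- the radical with the centre -/
def P2 : List R := [46, 47, 48, 49, 50, 51, 52, 53, 54, 55, 61, 62, 63, 64, 65, 66, 67, 68, 69, 70, 71]

/-- the orbits of the radical other than that of `α₂` -/
def others : List R := [47, 48, 49, 51, 52, 53, 54, 55, 63, 65, 66, 69, 70]

/-- moves clearing the neighbours of `α₂` -/
def kill : List (R × R) := [(32, 47), (31, 48), (30, 49), (27, 51), (26, 52), (11, 63)]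

/-- the roots cleared -/
def killP : List R := [47, 47, 48, 50, 49, 61, 51, 51, 52, 62, 63, 63]

/-- residual roots, known zeros, and a move -/
def res : List (R × List R × R × R) := [(53, [], 14, 67),
    (54, [53], 14, 68),
    (55, [53, 54, 64], 14, 69),
    (65, [53, 54, 64, 55, 67], 29, 68),
    (66, [53, 54, 64, 55, 67, 65], 29, 69),
    (69, [53, 54, 64, 55, 67], 37, 68),
    (70, [53, 54, 64, 55, 67, 65, 66, 68], 39, 69)]

/-- a path through the fixed roots of the radical -/
def path : List (R × R × R × R) := [(32, 39, 46, 47), (27, 44, 46, 51), (11, 60, 46, 63), (27, 44, 47, 53), (11, 60, 47, 65), (11, 60, 51, 69), (11, 60, 53, 70)]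

/-- the cells of the radical -/
def cells2 : List (R × List (R × R)) := [(46, [(32, 47), (31, 48), (30, 49), (27, 51), (26, 52), (11, 63)]),
    (47, [(34, 48), (33, 49), (27, 53), (26, 54), (11, 65)]),
    (48, []),
    (49, []),
    (51, [(35, 52), (32, 53), (30, 55), (11, 69)]),
    (52, []),
    (53, [(35, 54), (33, 55), (11, 70)]),
    (54, []),
    (63, [(32, 65), (31, 66), (27, 69)]),
    (55, []),
    (65, [(34, 66), (27, 70)]),
    (66, []),
    (69, [(32, 70)]),
    (70, [])]

/-- the radical of the middle node in the Levi complement -/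
def R3 : List R := [39, 40, 41, 43, 44, 45, 58, 59, 60]

/-- the cells of the middle node -/
def cells3 : List (R × List (R × R)) := [(60, [(56, 45), (57, 41)]),
    (45, []),
    (41, []),
    (44, [(42, 40)]),
    (40, []),
    (39, [])]

/-- allowed supports in the cells of the middle node -/
def sup3 : List (R × List R) := [(60, [39, 40, 41, 43, 44, 45, 58, 59, 60]), (44, [39, 40, 43, 44]), (39, [39])]

/-- moves reaching the fixed roots of the middle node -/
def mov : List (R × R) := [(60, 14), (44, 29)]

/-- the roots shared by the adjacent pair -/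
def rest : List R := [36, 37, 38, 40, 41, 42, 43, 44, 45, 48, 49, 50, 51, 52, 53, 54, 55, 56, 57, 58, 59, 60, 61, 62, 63, 64, 65, 66, 67, 68, 69, 70, 71]

/-- the centre against `α₂` -/
def halfZ : THalf := ⟨46, 71, [], 70, 70, 1⟩

/-- `α₂` in the adjacent pair -/
def halfO : THalf := ⟨46, 47, rest, 39, 39, 32⟩

/-- `α₄` in the adjacent pair -/
def halfN : THalf := ⟨39, 47, rest, 46, 46, 25⟩

/-- stabilising roots as commutators of stabilisers -/
def stab : List (R × R × R) := [(36, 34, 38), (37, 35, 38), (38, 36, 37), (39, 14, 58), (40, 14, 59), (41, 29, 45), (44, 15, 59), (45, 38, 43), (60, 36, 59)]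

end Cfsg.Agent.TwE6Deg54
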