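import Cfsg.Agent.Chev54.E6Deg.Num

/-!
Arithmetic for the degree bound of ²E6: the two degrees just below the bound do not divide the group order.
-/

set_option autoImplicit false

namespace Cfsg.Agent.TwE6Deg54

open Cfsg.Agent.E6Deg54 (peel peel_prime_pow)

/-- the bound, expanded -/
def bn (q : ℕ) : ℕ := q * (q ^ 6 - q ^ 3 + 1) * (q ^ 4 + 1)

/-- the order, up to the centre -/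
def ord' (q : ℕ) : ℕ :=
  q ^ 36 * (q ^ 2 - 1) * (q ^ 5 + 1) * (q ^ 6 - 1) * (q ^ 8 - 1) * (q ^ 9 + 1) * (q ^ 12 - 1)

theorem ord'_cast {q : ℕ} (hq : 1 ≤ q) : (ord' q : ℤ) = (q : ℤ) ^ 36 *
    (((-1) + 1 * (q : ℤ) ^ 1) ^ 4 * (1 + 1 * (q : ℤ) ^ 1) ^ 6 * (1 + 1 * (q : ℤ) ^ 1 + 1 * (q : ℤ) ^ 2) ^ 2 * (1 + 1 * (q : ℤ) ^ 2) ^ 2 * (1 + (-1) * (q : ℤ) ^ 1 + 1 * (q : ℤ) ^ 2) ^ 3 * (1 + 1 * (q : ℤ) ^ 4) ^ 1 * (1 + (-1) * (q : ℤ) ^ 1 + 1 * (q : ℤ) ^ 2 + (-1) * (q : ℤ) ^ 3 + 1 * (q : ℤ) ^ 4) ^ 1 * (1 + (-1) * (q : ℤ) ^ 2 + 1 * (q : ℤ) ^ 4) ^ 1 * (1 + (-1) * (q : ℤ) ^ 3 + 1 * (q : ℤ) ^ 6) ^ 1) := by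
  simp only [ord', Nat.cast_mul, Nat.cast_add, Nat.cast_sub (Nat.one_le_pow _ _ hq), Nat.cast_pow, Nat.cast_one]
  ring

theorem not_dvd_1 {q : ℕ} (hq : IsPrimePow q) (hq0 : 16 ≤ q) : ¬ (bn q - 1) ∣ ord' q := by
  intro h
  have hle : 1 ≤ bn q := by
    have h1 : 1 ≤ (q ^ 6 - q ^ 3 + 1) * (q ^ 4 + 1) := Nat.one_le_iff_ne_zero.2 (by positivity)
    calc 1 ≤ q * 1 := by omega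
      _ ≤ _ := by rw [bn, mul_assoc]; exact Nat.mul_le_mul_left _ h1
  have h' : ((bn q - 1 : ℕ) : ℤ) ∣ (ord' q : ℤ) := Int.natCast_dvd_natCast.2 h
  rw [Nat.cast_sub hle, ord'_cast (by omega)] at h'
  simp only [bn, Nat.cast_sub (Nat.pow_le_pow_right (show 0 < q by omega) (show 3 ≤ 6 by norm_num)), Nat.cast_mul, Nat.cast_add, Nat.cast_pow, Nat.cast_one, Nat.cast_ofNat] at h'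
  set x : ℤ := (q : ℤ) with hx
  set k : ℤ := (-1) + 1 * x ^ 1 + (-1) * x ^ 2 + 1 * x ^ 3 + (-1) * x ^ 4 + 1 * x ^ 5 + 1 * x ^ 7 with hk
  replace h' : k ∣ x ^ 36 * (((-1) + 1 * x ^ 1) ^ 4 * (1 + 1 * x ^ 1) ^ 6 * (1 + 1 * x ^ 1 + 1 * x ^ 2) ^ 2 * (1 + 1 * x ^ 2) ^ 2 * (1 + (-1) * x ^ 1 + 1 * x ^ 2) ^ 3 * (1 + 1 * x ^ 4) ^ 1 * (1 + (-1) * x ^ 1 + 1 * x ^ 2 + (-1) * x ^ 3 + 1 * x ^ 4) ^ 1 * (1 + (-1) * x ^ 2 + 1 * x ^ 4) ^ 1 * (1 + (-1) * x ^ 3 + 1 * x ^ 6) ^ 1) := by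
    refine dvd_trans ⟨1 + (-1) * x ^ 2 + 1 * x ^ 4, ?_⟩ h'
    rw [hk]; ring
  replace h' := peel_prime_pow hq (r := 1 + (-1) * x ^ 1 + 1 * x ^ 2 + (-1) * x ^ 3 + 1 * x ^ 4 + 1 * x ^ 6) (c := -1) (by rw [hk]; ring) (by norm_num) (by norm_num; omega) h'
  simp only [← mul_assoc] at h'
  replace h' : k ∣ (1 : ℤ) ^ 4 * ((-1 : ℤ) * (1 + 1 * x ^ 1) ^ 6 * (1 + 1 * x ^ 1 + 1 * x ^ 2) ^ 2 * (1 + 1 * x ^ 2) ^ 2 * (1 + (-1) * x ^ 1 + 1 * x ^ 2) ^ 3 * (1 + 1 * x ^ 4) ^ 1 * (1 + (-1) * x ^ 1 + 1 * x ^ 2 + (-1) * x ^ 3 + 1 * x ^ 4) ^ 1 * (1 + (-1) * x ^ 2 + 1 * x ^ 4) ^ 1 * (1 + (-1) * x ^ 3 + 1 * x ^ 6) ^ 1) := by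
    refine peel (s := 1) (t := (-2) + (-1) * x ^ 1 + (-2) * x ^ 2 + (-1) * x ^ 3 + (-2) * x ^ 4 + (-1) * x ^ 5 + (-1) * x ^ 6) (a := (-1) + 1 * x ^ 1) (by rw [hk]; ring) 4 _ (h'.trans (dvd_of_eq ?_))
    ring
  replace h' : k ∣ (7 : ℤ) ^ 6 * ((-1 : ℤ) * (1 : ℤ) ^ 4 * (1 + 1 * x ^ 1 + 1 * x ^ 2) ^ 2 * (1 + 1 * x ^ 2) ^ 2 * (1 + (-1) * x ^ 1 + 1 * x ^ 2) ^ 3 * (1 + 1 * x ^ 4) ^ 1 * (1 + (-1) * x ^ 1 + 1 * x ^ 2 + (-1) * x ^ 3 + 1 * x ^ 4) ^ 1 * (1 + (-1) * x ^ 2 + 1 * x ^ 4) ^ 1 * (1 + (-1) * x ^ 3 + 1 * x ^ 6) ^ 1) := by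
    refine peel (s := (-1)) (t := 6 + (-5) * x ^ 1 + 4 * x ^ 2 + (-3) * x ^ 3 + 2 * x ^ 4 + (-1) * x ^ 5 + 1 * x ^ 6) (a := 1 + 1 * x ^ 1) (by rw [hk]; ring) 6 _ (h'.trans (dvd_of_eq ?_))
    ring
  replace h' : k ∣ (1 : ℤ) ^ 2 * ((-1 : ℤ) * (1 : ℤ) ^ 4 * (7 : ℤ) ^ 6 * (1 + 1 * x ^ 2) ^ 2 * (1 + (-1) * x ^ 1 + 1 * x ^ 2) ^ 3 * (1 + 1 * x ^ 4) ^ 1 * (1 + (-1) * x ^ 1 + 1 * x ^ 2 + (-1) * x ^ 3 + 1 * x ^ 4) ^ 1 * (1 + (-1) * x ^ 2 + 1 * x ^ 4) ^ 1 * (1 + (-1) * x ^ 3 + 1 * x ^ 6) ^ 1) := by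
    refine peel (s := (-1) + (-1) * x ^ 1) (t := 1 * x ^ 6) (a := 1 + 1 * x ^ 1 + 1 * x ^ 2) (by rw [hk]; ring) 2 _ (h'.trans (dvd_of_eq ?_))
    ring
  replace h' : k ∣ (1 : ℤ) ^ 2 * ((-1 : ℤ) * (1 : ℤ) ^ 4 * (7 : ℤ) ^ 6 * (1 : ℤ) ^ 2 * (1 + (-1) * x ^ 1 + 1 * x ^ 2) ^ 3 * (1 + 1 * x ^ 4) ^ 1 * (1 + (-1) * x ^ 1 + 1 * x ^ 2 + (-1) * x ^ 3 + 1 * x ^ 4) ^ 1 * (1 + (-1) * x ^ 2 + 1 * x ^ 4) ^ 1 * (1 + (-1) * x ^ 3 + 1 * x ^ 6) ^ 1) := by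
    refine peel (s := (-1)) (t := 1 * x ^ 1 + (-1) * x ^ 2 + 1 * x ^ 5) (a := 1 + 1 * x ^ 2) (by rw [hk]; ring) 2 _ (h'.trans (dvd_of_eq ?_))
    ring
  replace h' : k ∣ (1 : ℤ) ^ 3 * ((-1 : ℤ) * (1 : ℤ) ^ 4 * (7 : ℤ) ^ 6 * (1 : ℤ) ^ 2 * (1 : ℤ) ^ 2 * (1 + 1 * x ^ 4) ^ 1 * (1 + (-1) * x ^ 1 + 1 * x ^ 2 + (-1) * x ^ 3 + 1 * x ^ 4) ^ 1 * (1 + (-1) * x ^ 2 + 1 * x ^ 4) ^ 1 * (1 + (-1) * x ^ 3 + 1 * x ^ 6) ^ 1) := by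
    refine peel (s := 1 + (-1) * x ^ 1) (t := 2 + (-2) * x ^ 3 + 1 * x ^ 6) (a := 1 + (-1) * x ^ 1 + 1 * x ^ 2) (by rw [hk]; ring) 3 _ (h'.trans (dvd_of_eq ?_))
    ring
  replace h' : k ∣ (1 : ℤ) ^ 1 * ((-1 : ℤ) * (1 : ℤ) ^ 4 * (7 : ℤ) ^ 6 * (1 : ℤ) ^ 2 * (1 : ℤ) ^ 2 * (1 : ℤ) ^ 3 * (1 + (-1) * x ^ 1 + 1 * x ^ 2 + (-1) * x ^ 3 + 1 * x ^ 4) ^ 1 * (1 + (-1) * x ^ 2 + 1 * x ^ 4) ^ 1 * (1 + (-1) * x ^ 3 + 1 * x ^ 6) ^ 1) := by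
    refine peel (s := 1 * x ^ 2) (t := 1 + 1 * x ^ 2 + (-1) * x ^ 3 + (-1) * x ^ 5) (a := 1 + 1 * x ^ 4) (by rw [hk]; ring) 1 _ (h'.trans (dvd_of_eq ?_))
    ring
  replace h' : k ∣ (1 : ℤ) ^ 1 * ((-1 : ℤ) * (1 : ℤ) ^ 4 * (7 : ℤ) ^ 6 * (1 : ℤ) ^ 2 * (1 : ℤ) ^ 2 * (1 : ℤ) ^ 3 * (1 : ℤ) ^ 1 * (1 + (-1) * x ^ 2 + 1 * x ^ 4) ^ 1 * (1 + (-1) * x ^ 3 + 1 * x ^ 6) ^ 1) := by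
    refine peel (s := (-1) * x ^ 1 + 1 * x ^ 2) (t := 1 + 1 * x ^ 2 + (-1) * x ^ 5) (a := 1 + (-1) * x ^ 1 + 1 * x ^ 2 + (-1) * x ^ 3 + 1 * x ^ 4) (by rw [hk]; ring) 1 _ (h'.trans (dvd_of_eq ?_))
    ring
  replace h' : k ∣ (37 : ℤ) ^ 1 * ((-1 : ℤ) * (1 : ℤ) ^ 4 * (7 : ℤ) ^ 6 * (1 : ℤ) ^ 2 * (1 : ℤ) ^ 2 * (1 : ℤ) ^ 3 * (1 : ℤ) ^ 1 * (1 : ℤ) ^ 1 * (1 + (-1) * x ^ 3 + 1 * x ^ 6) ^ 1) := by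
    refine peel (s := (-14) + (-11) * x ^ 1 + 8 * x ^ 2 + 1 * x ^ 3) (t := 23 + 3 * x ^ 1 + 28 * x ^ 2 + (-1) * x ^ 3 + 9 * x ^ 4 + (-8) * x ^ 5 + (-1) * x ^ 6) (a := 1 + (-1) * x ^ 2 + 1 * x ^ 4) (by rw [hk]; ring) 1 _ (h'.trans (dvd_of_eq ?_))
    ring
  replace h' : k ∣ (1 : ℤ) ^ 1 * ((-1 : ℤ) * (1 : ℤ) ^ 4 * (7 : ℤ) ^ 6 * (1 : ℤ) ^ 2 * (1 : ℤ) ^ 2 * (1 : ℤ) ^ 3 * (1 : ℤ) ^ 1 * (1 : ℤ) ^ 1 * (37 : ℤ) ^ 1) := by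
    refine peel (s := (-1) + 1 * x ^ 2 + (-1) * x ^ 4) (t := 1 * x ^ 1 + 1 * x ^ 5) (a := 1 + (-1) * x ^ 3 + 1 * x ^ 6) (by rw [hk]; ring) 1 _ (h'.trans (dvd_of_eq ?_))
    ring
  have hpos : (0 : ℤ) < k ∧ (4353013 : ℤ) < k := by
    obtain ⟨w, hw⟩ : ∃ w : ℕ, q = w + 16 := ⟨q - 16, by omega⟩
    have e1 : 1 * k = x ^ 7 + (986895 + 312033 * (w : ℤ) ^ 1 + 39471 * (w : ℤ) ^ 2 + 2497 * (w : ℤ) ^ 3 + 79 * (w : ℤ) ^ 4 + 1 * (w : ℤ) ^ 5) := by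
      rw [hk, hx, hw]; push_cast; ring
    have e2 : (16 : ℤ) ^ 7 ≤ x ^ 7 := pow_le_pow_left₀ (by norm_num) (by rw [hx]; exact_mod_cast hq0) _
    have e3 : (0 : ℤ) ≤ 986895 + 312033 * (w : ℤ) ^ 1 + 39471 * (w : ℤ) ^ 2 + 2497 * (w : ℤ) ^ 3 + 79 * (w : ℤ) ^ 4 + 1 * (w : ℤ) ^ 5 := by positivity
    norm_num at e2
    constructor <;> linarith
  have := Int.le_of_dvd (by norm_num) (dvd_abs _ _ |>.2 h')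
  norm_num at this
  linarith [hpos.1, hpos.2]

theorem not_dvd_2 {q : ℕ} (hq : IsPrimePow q) (hq0 : 16 ≤ q) : ¬ (bn q - 2) ∣ ord' q := by
  intro h
  have hle : 2 ≤ bn q := by
    have h1 : 1 ≤ (q ^ 6 - q ^ 3 + 1) * (q ^ 4 + 1) := Nat.one_le_iff_ne_zero.2 (by positivity)
    calc 2 ≤ q * 1 := by omega
      _ ≤ _ := by rw [bn, mul_assoc]; exact Nat.mul_le_mul_left _ h1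
  have h' : ((bn q - 2 : ℕ) : ℤ) ∣ (ord' q : ℤ) := Int.natCast_dvd_natCast.2 h
  rw [Nat.cast_sub hle, ord'_cast (by omega)] at h'
  simp only [bn, Nat.cast_sub (Nat.pow_le_pow_right (show 0 < q by omega) (show 3 ≤ 6 by norm_num)), Nat.cast_mul, Nat.cast_add, Nat.cast_pow, Nat.cast_one, Nat.cast_ofNat] at h'
  set x : ℤ := (q : ℤ) with hx
  set k : ℤ := 2 + 1 * x ^ 1 + 1 * x ^ 2 + 1 * x ^ 3 + 2 * x ^ 4 + 1 * x ^ 5 + 1 * x ^ 6 + 1 * x ^ 8 + 1 * x ^ 9 + 1 * x ^ 10 with hk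
  replace h' : k ∣ x ^ 36 * (((-1) + 1 * x ^ 1) ^ 4 * (1 + 1 * x ^ 1) ^ 6 * (1 + 1 * x ^ 1 + 1 * x ^ 2) ^ 2 * (1 + 1 * x ^ 2) ^ 2 * (1 + (-1) * x ^ 1 + 1 * x ^ 2) ^ 3 * (1 + 1 * x ^ 4) ^ 1 * (1 + (-1) * x ^ 1 + 1 * x ^ 2 + (-1) * x ^ 3 + 1 * x ^ 4) ^ 1 * (1 + (-1) * x ^ 2 + 1 * x ^ 4) ^ 1 * (1 + (-1) * x ^ 3 + 1 * x ^ 6) ^ 1) := by
    refine dvd_trans ⟨(-1) + 1 * x ^ 1, ?_⟩ h'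
    rw [hk]; ring
  replace h' := peel_prime_pow hq (r := 1 + 1 * x ^ 1 + 1 * x ^ 2 + 2 * x ^ 3 + 1 * x ^ 4 + 1 * x ^ 5 + 1 * x ^ 7 + 1 * x ^ 8 + 1 * x ^ 9) (c := 2) (by rw [hk]; ring) (by norm_num) (by norm_num; omega) h'
  simp only [← mul_assoc] at h'
  replace h' : k ∣ (12 : ℤ) ^ 4 * ((2 : ℤ) * (1 + 1 * x ^ 1) ^ 6 * (1 + 1 * x ^ 1 + 1 * x ^ 2) ^ 2 * (1 + 1 * x ^ 2) ^ 2 * (1 + (-1) * x ^ 1 + 1 * x ^ 2) ^ 3 * (1 + 1 * x ^ 4) ^ 1 * (1 + (-1) * x ^ 1 + 1 * x ^ 2 + (-1) * x ^ 3 + 1 * x ^ 4) ^ 1 * (1 + (-1) * x ^ 2 + 1 * x ^ 4) ^ 1 * (1 + (-1) * x ^ 3 + 1 * x ^ 6) ^ 1) := by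
    refine peel (s := 1) (t := (-10) + (-9) * x ^ 1 + (-8) * x ^ 2 + (-7) * x ^ 3 + (-5) * x ^ 4 + (-4) * x ^ 5 + (-3) * x ^ 6 + (-3) * x ^ 7 + (-2) * x ^ 8 + (-1) * x ^ 9) (a := (-1) + 1 * x ^ 1) (by rw [hk]; ring) 4 _ (h'.trans (dvd_of_eq ?_))
    ring
  replace h' : k ∣ (4 : ℤ) ^ 6 * ((2 : ℤ) * (12 : ℤ) ^ 4 * (1 + 1 * x ^ 1 + 1 * x ^ 2) ^ 2 * (1 + 1 * x ^ 2) ^ 2 * (1 + (-1) * x ^ 1 + 1 * x ^ 2) ^ 3 * (1 + 1 * x ^ 4) ^ 1 * (1 + (-1) * x ^ 1 + 1 * x ^ 2 + (-1) * x ^ 3 + 1 * x ^ 4) ^ 1 * (1 + (-1) * x ^ 2 + 1 * x ^ 4) ^ 1 * (1 + (-1) * x ^ 3 + 1 * x ^ 6) ^ 1) := by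
    refine peel (s := 1) (t := 2 + (-3) * x ^ 1 + 2 * x ^ 2 + (-3) * x ^ 3 + 1 * x ^ 4 + (-2) * x ^ 5 + 1 * x ^ 6 + (-1) * x ^ 7 + (-1) * x ^ 9) (a := 1 + 1 * x ^ 1) (by rw [hk]; ring) 6 _ (h'.trans (dvd_of_eq ?_))
    ring
  replace h' : k ∣ (3 : ℤ) ^ 2 * ((2 : ℤ) * (12 : ℤ) ^ 4 * (4 : ℤ) ^ 6 * (1 + 1 * x ^ 2) ^ 2 * (1 + (-1) * x ^ 1 + 1 * x ^ 2) ^ 3 * (1 + 1 * x ^ 4) ^ 1 * (1 + (-1) * x ^ 1 + 1 * x ^ 2 + (-1) * x ^ 3 + 1 * x ^ 4) ^ 1 * (1 + (-1) * x ^ 2 + 1 * x ^ 4) ^ 1 * (1 + (-1) * x ^ 3 + 1 * x ^ 6) ^ 1) := by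
    refine peel (s := 1 + (-1) * x ^ 1) (t := 1 + (-1) * x ^ 2 + 1 * x ^ 3 + (-1) * x ^ 4 + 1 * x ^ 5 + (-1) * x ^ 8 + 1 * x ^ 9) (a := 1 + 1 * x ^ 1 + 1 * x ^ 2) (by rw [hk]; ring) 2 _ (h'.trans (dvd_of_eq ?_))
    ring
  replace h' : k ∣ (4 : ℤ) ^ 2 * ((2 : ℤ) * (12 : ℤ) ^ 4 * (4 : ℤ) ^ 6 * (3 : ℤ) ^ 2 * (1 + (-1) * x ^ 1 + 1 * x ^ 2) ^ 3 * (1 + 1 * x ^ 4) ^ 1 * (1 + (-1) * x ^ 1 + 1 * x ^ 2 + (-1) * x ^ 3 + 1 * x ^ 4) ^ 1 * (1 + (-1) * x ^ 2 + 1 * x ^ 4) ^ 1 * (1 + (-1) * x ^ 3 + 1 * x ^ 6) ^ 1) := by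
    refine peel (s := 1 + (-1) * x ^ 1) (t := 2 + 1 * x ^ 1 + (-2) * x ^ 2 + (-1) * x ^ 3 + 1 * x ^ 4 + 2 * x ^ 5 + (-1) * x ^ 6 + (-1) * x ^ 7 + 1 * x ^ 9) (a := 1 + 1 * x ^ 2) (by rw [hk]; ring) 2 _ (h'.trans (dvd_of_eq ?_))
    ring
  replace h' : k ∣ (1 : ℤ) ^ 3 * ((2 : ℤ) * (12 : ℤ) ^ 4 * (4 : ℤ) ^ 6 * (3 : ℤ) ^ 2 * (4 : ℤ) ^ 2 * (1 + 1 * x ^ 4) ^ 1 * (1 + (-1) * x ^ 1 + 1 * x ^ 2 + (-1) * x ^ 3 + 1 * x ^ 4) ^ 1 * (1 + (-1) * x ^ 2 + 1 * x ^ 4) ^ 1 * (1 + (-1) * x ^ 3 + 1 * x ^ 6) ^ 1) := by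
    refine peel (s := (-1) + 1 * x ^ 1) (t := 3 + 2 * x ^ 1 + (-1) * x ^ 2 + (-3) * x ^ 3 + (-1) * x ^ 4 + 1 * x ^ 5 + 2 * x ^ 6 + (-1) * x ^ 8 + (-1) * x ^ 9) (a := 1 + (-1) * x ^ 1 + 1 * x ^ 2) (by rw [hk]; ring) 3 _ (h'.trans (dvd_of_eq ?_))
    ring
  replace h' : k ∣ (2 : ℤ) ^ 1 * ((2 : ℤ) * (12 : ℤ) ^ 4 * (4 : ℤ) ^ 6 * (3 : ℤ) ^ 2 * (4 : ℤ) ^ 2 * (1 : ℤ) ^ 3 * (1 + (-1) * x ^ 1 + 1 * x ^ 2 + (-1) * x ^ 3 + 1 * x ^ 4) ^ 1 * (1 + (-1) * x ^ 2 + 1 * x ^ 4) ^ 1 * (1 + (-1) * x ^ 3 + 1 * x ^ 6) ^ 1) := by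
    refine peel (s := 1 + (-1) * x ^ 1) (t := 1 * x ^ 1 + (-1) * x ^ 4 + 1 * x ^ 7) (a := 1 + 1 * x ^ 4) (by rw [hk]; ring) 1 _ (h'.trans (dvd_of_eq ?_))
    ring
  replace h' : k ∣ (11 : ℤ) ^ 1 * ((2 : ℤ) * (12 : ℤ) ^ 4 * (4 : ℤ) ^ 6 * (3 : ℤ) ^ 2 * (4 : ℤ) ^ 2 * (1 : ℤ) ^ 3 * (2 : ℤ) ^ 1 * (1 + (-1) * x ^ 2 + 1 * x ^ 4) ^ 1 * (1 + (-1) * x ^ 3 + 1 * x ^ 6) ^ 1) := by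
    refine peel (s := 6 + (-3) * x ^ 1 + (-1) * x ^ 2 + (-1) * x ^ 3) (t := (-1) + (-1) * x ^ 1 + (-1) * x ^ 2 + (-1) * x ^ 3 + (-7) * x ^ 4 + (-4) * x ^ 5 + 3 * x ^ 6 + 7 * x ^ 7 + 3 * x ^ 8 + 1 * x ^ 9) (a := 1 + (-1) * x ^ 1 + 1 * x ^ 2 + (-1) * x ^ 3 + 1 * x ^ 4) (by rw [hk]; ring) 1 _ (h'.trans (dvd_of_eq ?_))
    ring
  replace h' : k ∣ (1 : ℤ) ^ 1 * ((2 : ℤ) * (12 : ℤ) ^ 4 * (4 : ℤ) ^ 6 * (3 : ℤ) ^ 2 * (4 : ℤ) ^ 2 * (1 : ℤ) ^ 3 * (2 : ℤ) ^ 1 * (11 : ℤ) ^ 1 * (1 + (-1) * x ^ 3 + 1 * x ^ 6) ^ 1) := by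
    refine peel (s := 1 + (-1) * x ^ 1) (t := (-1) + 1 * x ^ 1 + (-1) * x ^ 2 + 1 * x ^ 3 + (-1) * x ^ 4 + 1 * x ^ 5 + 1 * x ^ 7) (a := 1 + (-1) * x ^ 2 + 1 * x ^ 4) (by rw [hk]; ring) 1 _ (h'.trans (dvd_of_eq ?_))
    ring
  replace h' : k ∣ (2 : ℤ) ^ 1 * ((2 : ℤ) * (12 : ℤ) ^ 4 * (4 : ℤ) ^ 6 * (3 : ℤ) ^ 2 * (4 : ℤ) ^ 2 * (1 : ℤ) ^ 3 * (2 : ℤ) ^ 1 * (11 : ℤ) ^ 1 * (1 : ℤ) ^ 1) := by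
    refine peel (s := 1 + (-1) * x ^ 1) (t := 1 * x ^ 1 + 1 * x ^ 5) (a := 1 + (-1) * x ^ 3 + 1 * x ^ 6) (by rw [hk]; ring) 1 _ (h'.trans (dvd_of_eq ?_))
    ring
  have hpos : (0 : ℤ) < k ∧ (1076291960832 : ℤ) < k := by
    obtain ⟨w, hw⟩ : ∃ w : ℕ, q = w + 16 := ⟨q - 16, by omega⟩
    have e1 : 1 * k = x ^ 10 + (73032405266 + 40808842017 * (w : ℤ) ^ 1 + 10134465585 * (w : ℤ) ^ 2 + 1468091009 * (w : ℤ) ^ 3 + 136712018 * (w : ℤ) ^ 4 + 8487009 * (w : ℤ) ^ 5 + 351233 * (w : ℤ) ^ 6 + 9344 * (w : ℤ) ^ 7 + 145 * (w : ℤ) ^ 8 + 1 * (w : ℤ) ^ 9) := by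
      rw [hk, hx, hw]; push_cast; ring
    have e2 : (16 : ℤ) ^ 10 ≤ x ^ 10 := pow_le_pow_left₀ (by norm_num) (by rw [hx]; exact_mod_cast hq0) _
    have e3 : (0 : ℤ) ≤ 73032405266 + 40808842017 * (w : ℤ) ^ 1 + 10134465585 * (w : ℤ) ^ 2 + 1468091009 * (w : ℤ) ^ 3 + 136712018 * (w : ℤ) ^ 4 + 8487009 * (w : ℤ) ^ 5 + 351233 * (w : ℤ) ^ 6 + 9344 * (w : ℤ) ^ 7 + 145 * (w : ℤ) ^ 8 + 1 * (w : ℤ) ^ 9 := by positivity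
    norm_num at e2
    constructor <;> linarith
  have := Int.le_of_dvd (by norm_num) (dvd_abs _ _ |>.2 h')
  norm_num at this
  linarith [hpos.1, hpos.2]

set_option maxRecDepth 100000 in
theorem small_check : ∀ q : Fin 16, ∀ e : Fin 3, 2 ≤ q.val → 1 ≤ e.val →
    ord' q.val % (bn q.val - e.val) ≠ 0 := by
  decide +kernel

/-- the two degrees just below the bound do not divide the group order -/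
theorem not_dvd {q e : ℕ} (hq : IsPrimePow q) (he1 : 1 ≤ e) (he2 : e ≤ 2) : ¬ (bn q - e) ∣ ord' q := by
  intro h
  rcases Nat.lt_or_ge q 16 with hlt | hge
  · exact small_check ⟨q, hlt⟩ ⟨e, by omega⟩ hq.two_le he1 (Nat.mod_eq_zero_of_dvd h)
  · rcases (show e = 1 ∨ e = 2 by omega) with rfl | rfl
    exacts [not_dvd_1 hq hge h, not_dvd_2 hq hge h]

end Cfsg.Agent.TwE6Deg54
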