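import Cfsg.Agent.Chev54.TwE6Deg.Recursion
import Cfsg.Agent.Chev54.TwE6Deg.Num
import Cfsg.Agent.Twisted.Transfer
import Cfsg.Agent.CrossChar56.Common
import Cfsg.Agent.Lib.CharClifford.Central
import Mathlib.NumberTheory.LegendreSymbol.Complex

/-!
The least degree of a nontrivial irreducible representation of `²E₆(q)`.
-/

set_option autoImplicit false

noncomputable section

namespace Cfsg.Agent.TwE6Deg54

open Cfsg.Lie Cfsg.Agent.ChevCore Cfsg.Agent.KnownSimple.Steinberg Cfsg.Agent.RootMove54 Cfsg.Agent.ChevGroup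
open Cfsg.Agent.Twisted (qpow_hom genEquiv)
open Cfsg.Agent.Twisted.TypeE6 (MT PP fd frame₀)

universe u

variable {F : Type u} [Field F] [Fintype F] {q : ℕ}

/-- a primitive character invariant under the Frobenius map -/
theorem exists_char (hq : IsPrimePow q) (hK : Fintype.card F = q ^ 2) :
    ∃ ψ : AddChar F ℂ, ψ.IsPrimitive ∧ ∀ v, ψ (v ^ q) = ψ v := by
  obtain ⟨φ, hφ⟩ := AddChar.exists_apply_ne_zero.mpr (one_ne_zero : (1 : F) ≠ 0)
  let T : F →+ F := AddMonoidHom.mk' (fun v => v + v ^ q) fun a b => by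
    show a + b + (a + b) ^ q = _
    rw [q_add hq hK]; ring
  obtain ⟨x, hx⟩ := exists_trace hq hK (one_pow q : (1 : F) ^ q = 1)
  refine ⟨φ.compAddMonoidHom T, AddChar.IsPrimitive.of_ne_one (AddChar.ne_one_iff.mpr ⟨x, ?_⟩), fun v => ?_⟩
  · rw [AddChar.compAddMonoidHom_apply, show T x = 1 from hx]
    exact hφ
  · rw [AddChar.compAddMonoidHom_apply, AddChar.compAddMonoidHom_apply]
    show φ (v ^ q + (v ^ q) ^ q) = φ (v + v ^ q)
    rw [q_q hq hK, add_comm]

/-- the bound -/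
theorem bound (hq : IsPrimePow q) (hK : Fintype.card F = q ^ 2) {k : ℕ}
    (ρ : Representation ℂ ↥(twistedE6 F q) (Fin k → ℂ)) (hρ : ρ.IsIrreducible) (hk : 2 ≤ k) :
    bnd q ≤ k := by
  classical
  by_contra hlt
  push Not at hlt
  obtain ⟨hsimple, -⟩ := Twisted.TypeE6.simple (frame₀ hq hK) hq hK
  haveI := hsimple
  haveI := hρ
  let e : ↥(G₁ F q) ≃* ↥(twistedE6 F q) := genEquiv _ _ _
  obtain ⟨ψ, hψ, hfrob⟩ := exists_char hq hK
  let C : TCtx F q k := ⟨hq, hK, ρ.comp e.toMonoidHom, ψ, hψ, hfrob⟩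
  have hmoved : ∃ x t, C.ρ (C.yy 46 t) x ≠ x := by
    obtain ⟨g₀, hg₀⟩ := Cfsg.Agent.CrossChar56.exists_ne_one_of_irreducible ρ hρ hk
    by_contra hall
    push Not at hall
    let f := Cfsg.Agent.CrossChar56.toGLHom ρ
    rcases (MonoidHom.normal_ker f).eq_bot_or_eq_top with h | h
    · obtain ⟨t, ht⟩ := exists_trace hq hK (one_pow q : (1 : F) ^ q = 1)
      have h1 : e (C.yy 46 t) ∈ f.ker := by
        rw [MonoidHom.mem_ker, Cfsg.Agent.CrossChar56.toGLHom_eq_one_iff]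
        exact LinearMap.ext fun x => hall x t
      rw [h, Subgroup.mem_bot, ← map_one e, e.injective.eq_iff] at h1
      have h2 : XX (46 : R) (t + t ^ q) = (1 : ↥(chevE6.group F)) := by
        rw [← EE_small hq hK (by decide +kernel)]
        exact congrArg Subtype.val h1
      rw [ht, X_eq_one_iff] at h2
      exact one_ne_zero h2
    · refine hg₀ ((Cfsg.Agent.CrossChar56.toGLHom_eq_one_iff ρ g₀).1 ?_)
      exact MonoidHom.mem_ker.1 (h ▸ Subgroup.mem_top g₀)
  have hlow := (Small.mk hmoved hlt : Small C).lower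
  haveI : Finite ↥(twistedE6 F q) := inferInstance
  have hd := Cfsg.Agent.CharClifford.finrank_dvd_card ρ
  rw [Module.finrank_fin_fun] at hd
  have hd2 : k ∣ ord' q := (hd.mul_left _).trans
    (dvd_of_eq (Twisted.TypeE6.card_G (frame₀ hq hK) hq hK))
  obtain ⟨j, hj1, hj2, rfl⟩ : ∃ j, 1 ≤ j ∧ j ≤ 2 ∧ k = bnd q - j := ⟨bnd q - k, by omega, by omega, by omega⟩
  exact not_dvd hq hj1 hj2 hd2

end Cfsg.Agent.TwE6Deg54
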