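import Cfsg.Agent.Chev54.TwE6Deg.Count

/-!
Edges between fixed roots, pairs of fixed roots, chains of cells, and the torus.
-/

set_option autoImplicit false
set_option linter.unusedSectionVars false

noncomputable section

namespace Cfsg.Agent.TwE6Deg54

open Cfsg.Lie Cfsg.Agent.ChevCore Cfsg.Agent.KnownSimple.Steinberg Cfsg.Agent.RootMove54 Cfsg.Agent.ChevGroup
open Cfsg.Agent.Twisted (tor chi qpow_hom)
open Cfsg.Agent.Twisted.TypeE6 (MT PP fd frame₀ cvec)

universe u

/-- one step between fixed roots -/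
def edgeB (P Z : List R) (r r' c d : R) : Bool :=
  decide (sg r = r) && decide (sg r' = r') && decide (c ≠ d) && decide (c ∈ P) && decide (d ∈ P) && decide (sg c = c) &&
    decide (sg d = d) && decide (c ∉ Z) && decide (d ∉ Z) && (Z.all fun z => decide (z ∈ P)) && stableB P Z r && stableB P Z r' &&
    decide (ent chevE6 r c = none) && decide (ent chevE6 r' d = none) &&
    (match ent chevE6 r d with | none => false | some (c', _) => decide (c' = c)) &&
    (match ent chevE6 r' c with | none => false | some (c', _) => decide (c' = d)) &&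
    (P.all fun x => decide (x = d) || (nbrs r x).all fun y => decide (y ≠ c)) &&
    (P.all fun x => decide (x = c) || (nbrs r' x).all fun y => decide (y ≠ c) && decide (y ≠ d) && decide (y ∈ P))

/-- a path of fixed roots, each step reversible -/
def pathB (P Z : List R) : List R → List (R × R × R × R) → Bool
  | _, [] => true
  | good, (r, r', c, d) :: l => decide (c ∈ good) && edgeB P Z r r' c d && edgeB P Z r' r d c &&
      pathB P Z (d :: good) l

/-- the roots reached by a path -/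
def pathEnd : List R → List (R × R × R × R) → List R
  | good, [] => good
  | good, e :: l => pathEnd (e.2.2.2 :: good) l

/-- a pair of fixed roots over frozen roots -/
structure THalf where
  a : R
  c : R
  S : List R
  tr : R
  r : R
  r' : R

/-- the roots of a pair -/
abbrev THalf.P (H : THalf) : List R := H.a :: H.c :: H.S

/-- conditions on a pair -/
def THalf.check (H : THalf) : Bool :=
  decide (H.a ≠ H.c) && decide (H.a ∉ H.S) && decide (H.c ∉ H.S) &&
  decide (sg H.a = H.a) && decide (sg H.c = H.c) &&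
  splitB H.S H.S [H.c] && splitB H.S (H.c :: H.S) [H.a] &&
  stepsB H.P H.S H.c [] [(H.tr, H.a)] &&
  edgeB H.P H.S H.r H.r' H.c H.a && edgeB H.P H.S H.r' H.r H.a H.c

/-- a chain of cells: orbits split one after the other; `sup u` may carry the characters used at `u` -/
def cellsB (P prior : List R) (sup : R → List R) : List R → List (R × List (R × R)) → Bool
  | _, [] => true
  | prev, (u, st) :: l => decide (u ∈ P) && decide (sg u ∈ P) &&
      ((prev ++ prior).all fun x => decide (x ∈ P) && (decide (sg u ≠ u) || decide (x ∉ sup u))) &&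
      splitB prior (prev ++ prior) [u] &&
      (decide (sg u ≠ u) || (stepsB P (prev ++ prior) u [] st &&
        splitB prior (orb u ++ (prev ++ prior)) (st.map Prod.snd) &&
        (st.all fun p => decide (p.2 ∈ P) && decide (sg p.2 ∈ P)))) &&
      cellsB P prior sup (orb u ++ prev) l

/-- the roots after a chain -/
def cellsEnd : List R → List (R × List (R × R)) → List R
  | prev, [] => prev
  | prev, e :: l => cellsEnd (orb e.1 ++ prev) l

/-- the number of characters in the cells of fixed roots -/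
def cellsTotal (q : ℕ) : List (R × List (R × R)) → ℕ
  | [] => 0
  | (u, st) :: l => (if sg u = u then (q - 1) * q ^ wsum (st.map Prod.snd) else 0) + cellsTotal q l

variable {F : Type u} [Field F] [Fintype F] {q : ℕ}

/-- a character supported at one root -/
def dlt (c : R) (t : F) : R → F := Function.update (fun _ => 0) c t

theorem dlt_self (c : R) (t : F) : dlt c t c = t := Function.update_self ..

theorem dlt_ne {c x : R} (h : x ≠ c) (t : F) : dlt c t x = 0 := Function.update_of_ne h ..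

theorem updO_small_zero {r : R} (h : sg r = r) (a : F) :
    updO q (fun _ => (0 : F)) r a = dlt r a := by
  rw [updO, h, Function.update_idem]; rfl

theorem updO_zero_zero (hq : IsPrimePow q) (r : R) : updO q (fun _ => (0 : F)) r 0 = fun _ => 0 := by
  funext x
  rw [updO, zero_pow hq.pos.ne', mul_zero]
  by_cases h1 : x = r
  · rw [h1, Function.update_self]
  · rw [Function.update_of_ne h1]
    by_cases h2 : x = sg r
    · rw [h2, Function.update_self]
    · rw [Function.update_of_ne h2]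

open Classical in
/-- the nonzero fixed scalars -/
theorem card_adm_erase (hq : IsPrimePow q) (hK : Fintype.card F = q ^ 2) {r : R} (h : sg r = r) :
    ((adm q r : Finset F).erase 0).card = q - 1 := by
  rw [Finset.card_erase_of_mem (mem_adm.2 fun _ => zero_pow hq.pos.ne'), card_adm hq hK, wt, if_pos h, pow_one]

/-- norms reach every fixed scalar -/
theorem exists_norm (hq : IsPrimePow q) (hK : Fintype.card F = q ^ 2) {v : F} (hv : v ^ q = v) (hv0 : v ≠ 0) :
    ∃ t : F, t ≠ 0 ∧ t ^ (q + 1) = v := by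
  obtain ⟨g, hg⟩ := IsCyclic.exists_monoid_generator (α := Fˣ)
  obtain ⟨i, hi'⟩ := hg (Units.mk0 v hv0)
  have hi : g ^ i = Units.mk0 v hv0 := hi'
  have hord : orderOf g = q ^ 2 - 1 := by
    rw [orderOf_eq_card_of_forall_mem_zpowers fun x => by
      obtain ⟨j, rfl⟩ := hg x; exact Subgroup.npow_mem_zpowers g j, Nat.card_units, Nat.card_eq_fintype_card, hK]
  have h2 := hq.one_lt
  have e1 : (Units.mk0 v hv0) ^ (q - 1) = 1 := by
    apply Units.ext
    rw [Units.val_pow_eq_pow_val, Units.val_mk0, Units.val_one]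
    refine mul_right_cancel₀ hv0 ?_
    rw [← pow_succ, show q - 1 + 1 = q by omega, hv, one_mul]
  rw [← hi, ← pow_mul, ← orderOf_dvd_iff_pow_eq_one, hord] at e1
  have e2 : q + 1 ∣ i := by
    have : (q + 1) * (q - 1) ∣ i * (q - 1) := by
      refine (dvd_of_eq ?_).trans e1
      rw [← Nat.sq_sub_sq, one_pow]
    exact Nat.dvd_of_mul_dvd_mul_right (by omega) this
  obtain ⟨j, rfl⟩ := e2
  refine ⟨((g ^ j : Fˣ) : F), Units.ne_zero _, ?_⟩
  rw [← Units.val_pow_eq_pow_val, ← pow_mul, mul_comm, hi, Units.val_mk0]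

namespace TCtx

variable {k : ℕ} (C : TCtx F q k)

theorem edge_spec {P Z : List R} {r r' c d : R} (h : edgeB P Z r r' c d = true) {c0 : ℕ} {t : F}
    (ht0 : t ≠ 0) (ht : t ^ q = t) (hc : c0 ≤ C.mf P (dlt c t)) {b : F} (hb0 : b ≠ 0) (hb : b ^ q = b) :
    c0 ≤ C.mf P (dlt d b) := by
  simp only [edgeB, Bool.and_eq_true, Bool.or_eq_true, decide_eq_true_eq, List.all_eq_true] at h
  obtain ⟨⟨⟨⟨⟨⟨⟨⟨⟨⟨⟨⟨⟨⟨⟨⟨⟨hr, hr'⟩, hcd⟩, hcP⟩, hdP⟩, hc1⟩, hd1⟩, hcZ⟩, hdZ⟩, hZP⟩, hst⟩, hst'⟩, hrc⟩, hrd⟩, he⟩, he'⟩, hx⟩, hx'⟩ := h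
  rcases e : ent chevE6 r d with _ | ⟨c₁, z⟩
  · rw [e] at he; simp at he
  rw [e] at he
  obtain rfl : c₁ = c := of_decide_eq_true he
  rcases e' : ent chevE6 r' c₁ with _ | ⟨d₁, z'⟩
  · rw [e'] at he'; simp at he'
  rw [e'] at he'
  obtain rfl : d₁ = d := of_decide_eq_true he'
  have hz : (z : F) ≠ 0 := cast_sign_ne_zero (ent_some sldE6 e).2
  have hz' : (z' : F) ≠ 0 := cast_sign_ne_zero (ent_some sldE6 e').2
  have hT : ∀ v : F, v ^ q = v → ∃ τ : F, τ + τ ^ q = v := fun v hv => exists_trace C.hq C.hK hv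
  obtain ⟨τ, hτ⟩ := hT (-(b / ((z : F) * t))) (by
    rw [q_neg C.hq C.hK, div_pow, mul_pow, q_int C.hq C.hK, hb, ht])
  set f1 := mvY q r τ (dlt c₁ t) with hf1
  have h1 : ∀ x ∈ P, f1 x = if x = d₁ then b else dlt c₁ t x := by
    intro x hxP
    by_cases hxd : x = d₁
    · subst hxd
      rw [if_pos rfl, hf1, mvY, hr, (sg_facts r).2.2.2.2.2.2 hr, Int.cast_one, one_mul, Ctx.mvf_some e,
        Ctx.mvf_some e, Ctx.mvf_none hrc, dlt_ne hcd.symm, dlt_self]
      calc _ = -((z : F) * (τ + τ ^ q) * t) := by ring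
        _ = _ := by rw [hτ]; field_simp
    · rw [if_neg hxd, hf1]
      exact mvY_fixed (Z := (nbrs r x)) (fun y hy => hy) τ fun y hy =>
        dlt_ne ((hx x hxP).resolve_left hxd y hy) t
  have z1 : ∀ y ∈ Z, f1 y = 0 := fun y hy => by
    rw [h1 y (hZP y hy), if_neg fun e : y = d₁ => hdZ (e ▸ hy), dlt_ne fun e : y = c₁ => hcZ (e ▸ hy)]
  obtain ⟨τ', hτ'⟩ := hT (t / ((z' : F) * b)) (by rw [div_pow, mul_pow, q_int C.hq C.hK, hb, ht])
  refine (hc.trans (C.mf_le_mvY hst τ fun y hy => dlt_ne (fun e : y = c₁ => hcZ (e ▸ hy)) t)).trans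
    ((C.mf_le_mvY hst' τ' z1).trans
    (le_of_eq (C.mf_congr (fun _ => Iff.rfl) fun x hxP => ?_)))
  by_cases hxc : x = c₁
  · subst hxc
    rw [mvY, hr', (sg_facts r').2.2.2.2.2.2 hr', Int.cast_one, one_mul, Ctx.mvf_some e', Ctx.mvf_some e',
      Ctx.mvf_none hrd, h1 x hxP, if_neg hcd, dlt_self, dlt_ne hcd]
    rw [h1 d₁ hdP, if_pos rfl]
    calc _ = t - (z' : F) * (τ' + τ' ^ q) * b := by ring
      _ = 0 := by rw [hτ']; field_simp; ring
  · have hv : f1 x = dlt d₁ b x := by
      rw [h1 x hxP]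
      by_cases hxd : x = d₁
      · rw [if_pos hxd, hxd, dlt_self]
      · rw [if_neg hxd, dlt_ne hxc, dlt_ne hxd]
    rw [← hv]
    refine mvY_fixed (Z := nbrs r' x) (fun y hy => hy) τ' fun y hy => ?_
    have := (hx' x hxP).resolve_left hxc y hy
    rw [h1 y this.2, if_neg this.1.2, dlt_ne this.1.1]

theorem rescale {P Z : List R} {r r' c d : R} {l : List (R × R × R × R)}
    (h : pathB P Z [c] ((r, r', c, d) :: l) = true) {c0 : ℕ} {t : F} (ht0 : t ≠ 0) (ht : t ^ q = t)
    (hc : c0 ≤ C.mf P (dlt c t)) {b : F} (hb0 : b ≠ 0) (hb : b ^ q = b) : c0 ≤ C.mf P (dlt c b) := by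
  simp only [pathB, Bool.and_eq_true, decide_eq_true_eq] at h
  exact C.edge_spec h.1.2 one_ne_zero (one_pow q) (C.edge_spec h.1.1.2 ht0 ht hc one_ne_zero (one_pow q)) hb0 hb

theorem path_spec {P Z : List R} {c0 : ℕ} (l : List (R × R × R × R)) :
    ∀ good, pathB P Z good l = true → (∀ x ∈ good, ∀ b : F, b ≠ 0 → b ^ q = b → c0 ≤ C.mf P (dlt x b)) →
      ∀ x ∈ pathEnd good l, ∀ b : F, b ≠ 0 → b ^ q = b → c0 ≤ C.mf P (dlt x b) := by
  induction l with
  | nil => intro good _ h; exact h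
  | cons e l ih =>
    obtain ⟨r, r', c, d⟩ := e
    intro good hB h
    simp only [pathB, Bool.and_eq_true, decide_eq_true_eq] at hB
    obtain ⟨⟨⟨hc, he⟩, -⟩, hB'⟩ := hB
    refine ih (d :: good) hB' fun x hx b hb0 hb => ?_
    rcases List.mem_cons.1 hx with rfl | hx
    · exact C.edge_spec he one_ne_zero (one_pow q) (h c hc 1 one_ne_zero (one_pow q)) hb0 hb
    · exact h x hx b hb0 hb

theorem half_trans {H : THalf} (h : H.check = true) (g g' : R → F) (hz : ∀ x ∈ H.S, g x = 0)
    (hz' : ∀ x ∈ H.S, g' x = 0) (hc : g H.c = g' H.c) (hne : g H.c ≠ 0) (ha' : Cons q g' H.a) :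
    C.mf H.P g ≤ C.mf H.P g' := by
  rcases Nat.eq_zero_or_pos (C.mf H.P g) with h0 | h0
  · rw [h0]; exact Nat.zero_le _
  simp only [THalf.check, Bool.and_eq_true] at h
  obtain ⟨⟨⟨-, hst⟩, -⟩, -⟩ := h
  obtain ⟨g₁, h1, h2, h3⟩ := C.lift h0 [(H.tr, H.a)] [] g hst hz hne le_rfl g'
    (fun p hp => by rw [List.mem_singleton.1 hp]; exact ha')
  refine h1.trans (le_of_eq (C.mf_congr (fun _ => Iff.rfl) fun x hx => ?_))
  rcases List.mem_cons.1 hx with rfl | hx
  · exact (h3 (H.tr, H.a) List.mem_cons_self).1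
  rcases List.mem_cons.1 hx with rfl | hx
  · rw [h2 _ (by simp), hc]
  · rw [h2 _ (by simp [hx]), hz x hx, hz' x hx]

theorem mf_orb {r : R} (h : sg r = r) (P : List R) (f : R → F) :
    C.mf (orb r ++ P) f = C.mf (r :: P) f :=
  C.mf_congr (fun x => by simp [orb, h]) fun _ _ => rfl

/-- all nonzero characters of a pair have the same multiplicity -/
theorem half_spec {H : THalf} (h : H.check = true) :
    ∃ m : ℕ, (∀ t : F, t ≠ 0 → t ^ q = t → C.mf (H.c :: H.S) (dlt H.c t) = q * m) ∧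
      (∀ x : F, x ≠ 0 → x ^ q = x → C.mf H.P (dlt H.a x) = m) ∧
      C.mf H.S (fun _ => 0) = C.mf H.P (fun _ => 0) + (q - 1) * (q + 1) * m := by
  classical
  have hh := h
  simp only [THalf.check, Bool.and_eq_true, decide_eq_true_eq] at h
  obtain ⟨⟨⟨⟨⟨⟨⟨⟨⟨hac, haS⟩, hcS⟩, hA⟩, hC⟩, hsp1⟩, hsp2⟩, -⟩, he⟩, he'⟩ := h
  have one : (1 : F) ≠ 0 := one_ne_zero
  have one' : (1 : F) ^ q = 1 := one_pow q
  set m := C.mf H.P (dlt H.c (1 : F)) with hm
  have ha : ∀ x : F, x ≠ 0 → x ^ q = x → C.mf H.P (dlt H.a x) = m := fun x hx hx' =>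
    le_antisymm (C.edge_spec he' hx hx' le_rfl one one') (C.edge_spec he one one' le_rfl hx hx')
  have hc : ∀ t : F, t ≠ 0 → t ^ q = t → C.mf H.P (dlt H.c t) = m := fun t ht ht' =>
    le_antisymm ((C.edge_spec he ht ht' le_rfl one one').trans (ha 1 one one').le)
      ((ha 1 one one').ge.trans (C.edge_spec he' one one' le_rfl ht ht'))
  have hS : ∀ t : F, ∀ x ∈ H.S, dlt H.c t x = 0 := fun t x hx =>
    dlt_ne (fun e : x = H.c => hcS (e ▸ hx)) t
  have hct : ∀ t : F, t ≠ 0 → t ^ q = t → C.mf (H.c :: H.S) (dlt H.c t) = q * m := by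
    intro t ht ht'
    rw [C.split_one hsp2 (fun x hx => hS t x hx)]
    rw [Finset.sum_congr rfl fun x hx => (?_ : C.mf (orb H.a ++ H.c :: H.S) (updO q (dlt H.c t) H.a x) = m),
      Finset.sum_const, card_adm C.hq C.hK, wt, if_pos hA, pow_one, smul_eq_mul]
    have hu : ∀ y ∈ H.S, updO q (dlt H.c t) H.a x y = 0 := fun y hy => by
      rw [updO_agree haS (by rw [hA]; exact haS) _ _ y hy, hS t y hy]
    have hxc : updO q (dlt H.c t) H.a x H.c = t := by
      rw [updO_ne _ _ hac.symm (by rw [hA]; exact hac.symm), dlt_self]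
    have hx1 := mem_adm.1 hx hA
    have hcons : Cons q (updO q (dlt H.c t) H.a x) H.a := by
      refine ⟨?_, fun _ => by rw [updO_self]; exact hx1⟩
      rw [hA, updO_self, hx1, (sg_facts H.a).2.2.2.2.2.2 hA, Int.cast_one, one_mul]
    have hcons' : Cons q (dlt H.c t) H.a := by
      refine ⟨?_, fun _ => ?_⟩ <;> simp [hA, dlt_ne hac, zero_pow C.hq.pos.ne']
    rw [C.mf_orb hA, ← hc t ht ht']
    exact le_antisymm (C.half_trans hh _ _ hu (hS t) (by rw [hxc, dlt_self]) (by rw [hxc]; exact ht) hcons')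
      (C.half_trans hh _ _ (hS t) hu (by rw [hxc, dlt_self]) (by rw [dlt_self]; exact ht) hcons)
  refine ⟨m, hct, ha, ?_⟩
  rw [C.split_one hsp1 (fun _ _ => rfl), ← Finset.add_sum_erase _ _
      (mem_adm.2 fun _ => zero_pow C.hq.pos.ne'), updO_zero_zero C.hq, C.mf_orb hC,
    C.split_one hsp2 (fun _ _ => rfl), ← Finset.add_sum_erase _ _
      (mem_adm.2 fun _ => zero_pow C.hq.pos.ne'), updO_zero_zero C.hq, C.mf_orb hA,
    Finset.sum_congr rfl fun x hx => (?_ : C.mf (orb H.a ++ H.c :: H.S) (updO q (fun _ => (0 : F)) H.a x) = m),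
    Finset.sum_congr rfl fun t ht => (?_ : C.mf (orb H.c ++ H.S) (updO q (fun _ => (0 : F)) H.c t) = q * m)]
  · simp only [Finset.sum_const, card_adm_erase C.hq C.hK hA, card_adm_erase C.hq C.hK hC, smul_eq_mul]
    ring
  · obtain ⟨h0, h1⟩ := Finset.mem_erase.1 ht
    rw [C.mf_orb hC, updO_small_zero hC]
    exact hct t h0 (mem_adm.1 h1 hC)
  · obtain ⟨h0, h1⟩ := Finset.mem_erase.1 hx
    rw [C.mf_orb hA, updO_small_zero hA]
    exact ha x h0 (mem_adm.1 h1 hA)

/-- the two fixed spaces have the same dimension -/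
theorem pair_fix_eq {H H' : THalf} (h : H.check = true) (h' : H'.check = true) (hc : H'.c = H.c)
    (hS : H'.S = H.S) : C.mf H.P (fun _ => (0 : F)) = C.mf H'.P (fun _ => 0) := by
  obtain ⟨m, h1, -, h2⟩ := C.half_spec h
  obtain ⟨m', h1', -, h2'⟩ := C.half_spec h'
  rw [hc, hS] at h1'
  have e : m = m' := Nat.eq_of_mul_eq_mul_left C.hq.pos
    ((h1 1 one_ne_zero (one_pow q)).symm.trans (h1' 1 one_ne_zero (one_pow q)))
  rw [hS] at h2'
  subst e
  omega

theorem cells_spec {P prior : List R} {sup : R → List R} {c0 : ℕ} (hc0 : 1 ≤ c0)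
    (l : List (R × List (R × R))) :
    ∀ prev, cellsB P prior sup prev l = true →
      (∀ e ∈ l, sg e.1 = e.1 → ∀ b : F, b ≠ 0 → b ^ q = b →
        ∃ f : R → F, f e.1 = b ∧ (∀ x ∈ P, x ∉ sup e.1 → f x = 0) ∧ c0 ≤ C.mf P f) →
      C.mf (cellsEnd prev l ++ prior) (fun _ => 0) + c0 * cellsTotal q l ≤
      C.mf (prev ++ prior) (fun _ => 0) := by
  classical
  induction l with
  | nil => intro prev _ _; simp [cellsEnd, cellsTotal]
  | cons e l ih =>
    obtain ⟨u, st⟩ := e
    intro prev hB hdl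
    simp only [cellsB, Bool.and_eq_true, Bool.or_eq_true, decide_eq_true_eq, List.all_eq_true] at hB
    obtain ⟨⟨⟨⟨⟨hu, hu'⟩, hav⟩, hsp⟩, hcell⟩, hB'⟩ := hB
    have h2 := ih (orb u ++ prev) hB' fun e he => hdl e (List.mem_cons_of_mem _ he)
    rw [C.split_one hsp (fun _ _ => rfl), ← Finset.add_sum_erase _ _
      (mem_adm.2 fun _ => zero_pow C.hq.pos.ne'), updO_zero_zero C.hq]
    rw [cellsEnd, cellsTotal]
    by_cases hsm : sg u = u
    swap
    · rw [if_neg hsm, zero_add]
      refine le_trans h2 (le_trans (le_of_eq ?_) (Nat.le_add_right _ _))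
      exact C.mf_congr (fun x => by simp) fun _ _ => rfl
    rw [if_pos hsm]
    obtain ⟨⟨hstep, hsp2⟩, hT⟩ := hcell.resolve_left fun h => h hsm
    have key : ∀ a ∈ (adm q u : Finset F).erase 0, q ^ wsum (st.map Prod.snd) * c0 ≤
        C.mf (orb u ++ (prev ++ prior)) (updO q (fun _ => (0 : F)) u a) := by
      intro a ha
      obtain ⟨ha0, ha1⟩ := Finset.mem_erase.1 ha
      rw [updO_small_zero hsm]
      obtain ⟨f, hfu, hfz, hf⟩ := hdl (u, st) List.mem_cons_self hsm a ha0 (mem_adm.1 ha1 hsm)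
      have hfu' : f u = a := hfu
      have hzero : ∀ z ∈ prev ++ prior, f z = 0 := fun z hz =>
        hfz z (hav z hz).1 ((hav z hz).2.resolve_left fun h => h hsm)
      refine le_trans (C.cell_bound hc0 hsp2 hstep (List.all_eq_true.2 fun x hx => ?_)
        (List.all_eq_true.2 fun p hp => by simpa using hT p hp) hzero
        (fun z hz' => hzero z (List.mem_append_right _ hz')) (by rw [hfu']; exact ha0) hf) (le_of_eq ?_)
      · simp only [Bool.and_eq_true, decide_eq_true_eq, List.append_nil]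
        rcases List.mem_append.1 hx with hx | hx
        · simp only [orb, List.mem_cons, List.not_mem_nil, or_false] at hx
          rcases hx with rfl | rfl
          · exact ⟨by simp, hu⟩
          · exact ⟨by simp, hu'⟩
        · exact ⟨List.mem_append_right _ hx, (hav x hx).1⟩
      · refine C.mf_congr (fun _ => Iff.rfl) fun x hx => ?_
        rcases List.mem_append.1 hx with hx | hx
        · simp only [orb, hsm, List.mem_cons, List.not_mem_nil, or_false, or_self] at hx
          rw [hx, dlt_self, hfu']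
        · rw [hzero x hx, dlt_ne]
          intro e
          simp only [splitB, Bool.and_eq_true, decide_eq_true_eq] at hsp
          exact hsp.1.1.1.1.1 (e ▸ hx)
    have h3 : c0 * ((q - 1) * q ^ wsum (st.map Prod.snd)) ≤ ∑ a ∈ (adm q u : Finset F).erase 0,
        C.mf (orb u ++ (prev ++ prior)) (updO q (fun _ => (0 : F)) u a) := by
      refine le_trans (le_of_eq ?_) (Finset.sum_le_sum key)
      rw [Finset.sum_const, card_adm_erase C.hq C.hK hsm, smul_eq_mul]
      ring
    rw [List.append_assoc] at h2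
    calc _ = (C.mf (cellsEnd (orb u ++ prev) l ++ prior) (fun _ => 0) + c0 * cellsTotal q l) +
          c0 * ((q - 1) * q ^ wsum (st.map Prod.snd)) := by ring
      _ ≤ _ := add_le_add h2 h3

/-- the torus element with parameter `c` on the middle orbit -/
def hh (c : Fˣ) : ↥(chevE6.group F) := tor MT (KE F) (cvec q 1 1 c 1)

/-- the scaling at a root -/
def sc (q : ℕ) (c : Fˣ) (s : R) : F := (chi MT (cvec q (1 : Fˣ) 1 c 1) s : F)

include C in
theorem hh_mem (c : Fˣ) : hh (q := q) c ∈ G₁ F q :=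
  Twisted.TypeE6.torus_mem (frame₀ C.hq C.hK) (qpow_hom C.hq C.hK).1 C.hq.pos.ne' _
    (Twisted.TypeE6.sig_cvec (frame₀ C.hq C.hK) C.hq C.hK 1 1 c 1 (one_pow q) (one_pow q))

theorem sc39 (c : Fˣ) : sc q c 39 = ((c : F) ^ (q + 1))⁻¹ := by
  obtain ⟨-, -, -, v, -, -⟩ := Twisted.TypeE6.chi_simple (F := F) (cvec q (1 : Fˣ) 1 c 1)
  obtain ⟨-, e1, e2, e3, e4, -⟩ := Twisted.TypeE6.cvec_val q (1 : Fˣ) 1 c (1 : Fˣ)
  rw [sc, show ((39 : R) : Fin MT.tab.n) = (39 : Fin MT.tab.n) from rfl, v, e1, e2, e3, e4]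
  simp [pow_succ, mul_comm]

/-- the torus carries eigenvectors to eigenvectors -/
theorem mf_torus (P : List R) (f : R → F) (c : Fˣ) :
    C.mf P f ≤ C.mf P (fun s => f s * (sc q c s)⁻¹) := by
  set h : ↥(G₁ F q) := ⟨hh (q := q) c, C.hh_mem c⟩
  have hfix := sig_of_mem C.hq C.hK (C.hh_mem c)
  have hconj : ∀ (s : R) (u : F), h⁻¹ * C.yy s u * h = C.yy s ((sc q c s)⁻¹ * u) := by
    intro s u
    have e0 : (hh (q := q) c)⁻¹ * XX s u * hh (q := q) c = XX s ((sc q c s)⁻¹ * u) := by
      have e := (frame₀ C.hq C.hK).tor_conj (cvec q 1 1 c 1) s ((sc q c s)⁻¹ * u)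
      rw [← xl, ← xl]
      rw [show ((chi MT (cvec q (1 : Fˣ) 1 c 1) s : Fˣ) : F) * ((sc q c s)⁻¹ * u) = u by
        rw [← mul_assoc, sc, mul_inv_cancel₀ (Units.ne_zero _), one_mul]] at e
      rw [hh, ← e]
      group
    apply Subtype.ext
    show (hh (q := q) c)⁻¹ * EE C.hq C.hK s u * hh (q := q) c = EE C.hq C.hK s _
    rw [EE, EE, ← e0, map_mul, map_mul, map_inv, hfix]
    group
  have hmem : ∀ x ∈ C.eig P f, C.ρ h x ∈ C.eig P (fun s => f s * (sc q c s)⁻¹) := by
    intro x hx s hs u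
    have key : C.ρ (h⁻¹ * C.yy s u * h) x = C.ψ (f s * (sc q c s)⁻¹ * u) • x := by
      rw [hconj, hx s hs, mul_assoc]
    rw [mul_assoc, C.apply_mul h⁻¹, C.apply_mul] at key
    have e2 := congrArg (C.ρ h) key
    rwa [apply_self_inv, map_smul] at e2
  refine LinearMap.finrank_le_finrank_of_injective
    (f := (C.ρ h).restrict (p := C.eig P f) (q := C.eig P (fun s => f s * (sc q c s)⁻¹)) hmem) ?_
  intro x y e
  exact Subtype.ext (Function.LeftInverse.injective (C.apply_inv_self _) (congrArg Subtype.val e))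

end TCtx

end Cfsg.Agent.TwE6Deg54
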