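import Cfsg.Agent.Chev54.TwE6Deg.Cert

/-!
The three levels in type ²E6: a representation moving the root group of `α₂` has degree at least the bound
minus two.
-/

set_option autoImplicit false
set_option linter.unusedSectionVars false

noncomputable section

namespace Cfsg.Agent.TwE6Deg54

open Cfsg.Lie Cfsg.Agent.ChevCore Cfsg.Agent.KnownSimple.Steinberg Cfsg.Agent.RootMove54 Cfsg.Agent.ChevGroup

universe u

/-- the bound -/
def bnd (q : ℕ) : ℕ := q * (q ^ 6 - q ^ 3 + 1) * (q ^ 4 + 1)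

/-- the exponents of the cells of fixed roots -/
def cellExps (l : List (R × List (R × R))) : List ℕ :=
  l.filterMap fun e => if sg e.1 = e.1 then some (wsum (e.2.map Prod.snd)) else none

theorem cellsTotal_eq (q : ℕ) (l : List (R × List (R × R))) :
    cellsTotal q l = ((cellExps l).map fun e => (q - 1) * q ^ e).sum := by
  induction l with
  | nil => rfl
  | cons e l ih =>
    obtain ⟨u, st⟩ := e
    rw [cellsTotal, ih]
    by_cases h : sg u = u <;> simp [cellExps, h]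

theorem totals (q : ℕ) : cellsTotal q cells2 = (q - 1) * (1 + q + q ^ 3 + q ^ 4 + q ^ 5 + q ^ 6 + q ^ 8 + q ^ 9) ∧
    cellsTotal q cells3 = (q - 1) * (1 + q ^ 2 + q ^ 4) := by
  rw [cellsTotal_eq, cellsTotal_eq, show cellExps cells2 = [9, 8, 6, 5, 4, 3, 1, 0] by decide +kernel,
    show cellExps cells3 = [4, 2, 0] by decide +kernel]
  constructor <;> simp only [List.map_cons, List.map_nil, List.sum_cons, List.sum_nil] <;> ring

theorem bnd_facts (q : ℕ) (hq : 2 ≤ q) :
    bnd q ≤ (q - 1) * q ^ 10 + cellsTotal q cells2 + cellsTotal q cells3 + 2 ∧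
      bnd q < q ^ 11 ∧ bnd q ≤ (q - 1) * q ^ 10 + 2 * cellsTotal q cells2 := by
  obtain ⟨w, rfl⟩ : ∃ w, q = w + 2 := ⟨q - 2, by omega⟩
  have e : (w + 2) ^ 6 - (w + 2) ^ 3 + 1 = (w + 2) ^ 3 * ((w + 2) ^ 3 - 1) + 1 := by
    rw [Nat.mul_sub, ← pow_add, mul_one]
  obtain ⟨m, hm⟩ : ∃ m, (w + 2) ^ 3 = m + 1 := ⟨(w + 2) ^ 3 - 1, (Nat.sub_add_cancel (Nat.one_le_pow _ _ (by omega))).symm⟩
  have hm' : m = w ^ 3 + 6 * w ^ 2 + 12 * w + 7 := by ring_nf at hm; omega
  rw [bnd, e, hm, Nat.add_sub_cancel, hm', (totals _).1, (totals _).2, show w + 2 - 1 = w + 1 by omega]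
  refine ⟨?_, ?_, ?_⟩ <;> ring_nf <;> omega

variable {F : Type u} [Field F] [Fintype F] {q k : ℕ} (C : TCtx F q k)

/-- standing assumptions: the root group of `α₂` is moved and the degree is below the bound -/
structure Small : Prop where
  moved : ∃ x t, C.ρ (C.yy 46 t) x ≠ x
  lt : k < bnd q

theorem dlt_zero {u x : R} (h : x ≠ u) (b : F) : dlt u b x = 0 := dlt_ne h b

namespace Small

variable {C} (h : Small C)

include h

theorem center : C.mf [71] (fun _ => (0 : F)) + (q - 1) * q ^ 10 ≤ k ∧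
    ∀ b : F, b ≠ 0 → b ^ q = b → 1 ≤ C.mf [46, 71] (dlt 46 b) := by
  classical
  have hc := center_cert
  simp only [centerB, Bool.and_eq_true, decide_eq_true_eq] at hc
  obtain ⟨⟨⟨⟨⟨⟨hsp0, hsp⟩, hst⟩, hsame⟩, hT⟩, hw⟩, h71⟩ := hc
  have hg := gap_cert
  simp only [gapB, Bool.and_eq_true] at hg
  obtain ⟨⟨⟨⟨⟨⟨hZ, -⟩, -⟩, -⟩, -⟩, -⟩, -⟩ := hg
  obtain ⟨m, hm1, hm2, hm3⟩ := C.half_spec hZ
  have hm3' : k = C.mf [46, 71] (fun _ => 0) + (q - 1) * (q + 1) * m := (C.mf_nil _).symm.trans hm3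
  have hlt : C.mf [46, 71] (fun _ => (0 : F)) < k := by
    obtain ⟨x, t, hx⟩ := h.moved
    have hne : C.eig [46, 71] (fun _ => (0 : F)) ≠ ⊤ := fun e => hx <| by
      have := (e ▸ Submodule.mem_top : x ∈ C.eig [46, 71] (fun _ => 0)) 46 List.mem_cons_self t
      rwa [zero_mul, AddChar.map_zero_eq_one, one_smul] at this
    have := Submodule.finrank_lt hne
    rwa [Module.finrank_fin_fun] at this
  have hm : 1 ≤ m := by
    rcases Nat.eq_zero_or_pos m with h0 | h0
    · rw [h0, mul_zero, add_zero] at hm3'; omega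
    · exact h0
  refine ⟨?_, fun b hb hb' => (hm2 b hb hb').symm ▸ hm⟩
  have big : ∀ t : F, t ≠ 0 → t ^ q = t → q ^ 10 ≤ C.mf [71] (dlt 71 t) := by
    intro t ht ht'
    have h1 : 1 ≤ C.mf [71] (dlt 71 t) := by
      show 1 ≤ C.mf (halfZ.c :: halfZ.S) (dlt halfZ.c t)
      rw [hm1 t ht ht']; exact Nat.mul_pos C.hq.pos hm
    obtain ⟨g, hg, hg1⟩ := C.exists_ext (trans.map Prod.snd) [71] (dlt 71 t) hsp
      (fun z hz => absurd hz List.not_mem_nil) h1
    rw [C.mf_congr (P' := P1) (sameB_iff hsame) (fun _ _ => rfl)] at hg1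
    have hgt : g 71 = t := by rw [hg 71 List.mem_cons_self, dlt_self]
    have := C.cell_bound (P' := [71]) (f := g) le_rfl hsp hst (by decide +kernel) hT
      (fun z hz => absurd hz List.not_mem_nil) (fun z hz => absurd hz List.not_mem_nil)
      (by rw [hgt]; exact ht) hg1
    rw [mul_one, hw] at this
    refine this.trans (le_of_eq (C.mf_congr (fun _ => Iff.rfl) fun s hs => hg s hs))
  have hk := C.split_one (f := fun _ => (0 : F)) hsp0 (fun z hz => absurd hz List.not_mem_nil)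
  rw [C.mf_nil, ← Finset.add_sum_erase _ _ (mem_adm.2 fun _ => zero_pow C.hq.pos.ne'),
    updO_zero_zero C.hq, C.mf_orb h71] at hk
  refine le_of_le_of_eq (Nat.add_le_add_left ?_ _) hk.symm
  calc _ = ∑ _a ∈ (adm q (71 : R) : Finset F).erase 0, q ^ 10 := by
        rw [Finset.sum_const, card_adm_erase C.hq C.hK h71, smul_eq_mul]
    _ ≤ _ := Finset.sum_le_sum fun a ha => by
      obtain ⟨h0, h1⟩ := Finset.mem_erase.1 ha
      rw [C.mf_orb h71, updO_small_zero h71]
      exact big a h0 (mem_adm.1 h1 h71)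

theorem q2 (_h : Small C := h) : 2 ≤ q := C.hq.one_lt

/-- every character supported at `α₂` occurs on the radical -/
theorem single (b : F) (hb : b ≠ 0) (hb' : b ^ q = b) : 1 ≤ C.mf P2 (dlt 46 b) := by
  classical
  have hc := rad_cert
  simp only [radB, Bool.and_eq_true, decide_eq_true_eq, List.all_eq_true] at hc
  obtain ⟨⟨⟨⟨⟨⟨⟨⟨⟨⟨⟨⟨⟨⟨⟨⟨hsp, hsame⟩, hkill⟩, hkill1⟩, hspk⟩, hw⟩, hkP⟩, hkT⟩, hseen⟩, hcov⟩, hres⟩, -⟩, -⟩, -⟩, -⟩, h46⟩, hkP2⟩ := hc
  obtain ⟨hk, h1⟩ := h.center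
  have hz0 : ∀ z ∈ ([71] : List R), dlt 46 b z = 0 := fun z hz => by
    rw [List.mem_singleton.1 hz]; exact dlt_ne (by decide) b
  obtain ⟨g, hg, hg1⟩ := C.exists_ext others [46, 71] (dlt 46 b) hsp hz0 (h1 b hb hb')
  rw [C.mf_congr (P' := P2) (sameB_iff hsame) (fun _ _ => rfl)] at hg1
  have hg46 : g 46 = b := by rw [hg 46 List.mem_cons_self, dlt_self]
  have hg71 : ∀ z ∈ ([71] : List R), g z = 0 := fun z hz => by
    rw [List.mem_singleton.1 hz, hg 71 (by simp)]; exact dlt_ne (by decide) b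
  obtain ⟨g', hg', hgK, hg0⟩ := C.lift le_rfl kill [] g hkill hg71 (by rw [hg46]; exact hb) hg1 (fun _ => 0)
    (fun p _ => ⟨by simp [zero_pow C.hq.pos.ne'], fun _ => zero_pow C.hq.pos.ne'⟩)
  have e46 : g' 46 = b := by rw [hgK 46 (by simp), hg46]
  have e71 : ∀ z ∈ ([71] : List R), g' z = 0 := fun z hz => by
    rw [hgK z (by simp [List.mem_singleton.1 hz]), hg71 z hz]
  have ek : ∀ x ∈ killP, g' x = 0 := by
    intro x hx
    obtain ⟨s, hs, hxs⟩ := List.mem_flatMap.1 ((sameB_iff hkP x).1 hx)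
    obtain ⟨p, hp, rfl⟩ := List.mem_map.1 hs
    simp only [orb, List.mem_cons, List.not_mem_nil, or_false] at hxs
    rcases hxs with rfl | rfl
    exacts [(hg0 p hp).1, (hg0 p hp).2]
  have part : ∀ e ∈ res, g' e.1 = 0 → ∀ x ∈ orb e.1, g' x = 0 := by
    intro e he h0 x hx
    have := hres e he
    simp only [orb, List.mem_cons, List.not_mem_nil, or_false] at hx
    rcases hx with rfl | rfl
    · exact h0
    · rw [(C.cons_of_pos hg' this.1.1.1.1.1.1 this.1.1.1.1.1.2).1, h0, zero_pow C.hq.pos.ne', mul_zero]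
  have first : ∀ (l : List (R × List R × R × R)) (seen : List R), (∀ e ∈ l, e ∈ res) → seenB seen l = true →
      (∀ x ∈ seen, g' x = 0) → (∃ e ∈ l, g' e.1 ≠ 0) → ∃ e ∈ res, g' e.1 ≠ 0 ∧ ∀ x ∈ e.2.1, g' x = 0 := by
    intro l
    induction l with
    | nil => intro seen _ _ _ h; simp at h
    | cons e l ih =>
      obtain ⟨e, z, r, s⟩ := e
      intro seen hl hB hz hh
      simp only [seenB, Bool.and_eq_true, decide_eq_true_eq, List.all_eq_true] at hB
      by_cases he : g' e = 0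
      · obtain ⟨e', he', h'⟩ := hh
        rcases List.mem_cons.1 he' with rfl | he'
        · exact absurd he h'
        exact ih (orb e ++ seen) (fun x hx => hl x (List.mem_cons_of_mem _ hx)) hB.2 (fun x hx => by
          rcases List.mem_append.1 hx with hx | hx
          exacts [part _ (hl (e, z, r, s) List.mem_cons_self) he x hx, hz x hx]) ⟨e', he', h'⟩
      · exact ⟨_, hl _ List.mem_cons_self, he, fun x hx => hz x (hB.1 x hx)⟩
  by_cases hr : ∃ e ∈ res, g' e.1 ≠ 0
  · exfalso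
    obtain ⟨⟨e, z, r, s⟩, he, hge, hze⟩ :=
      first res [] (fun _ h => h) hseen (fun x hx => absurd hx List.not_mem_nil) hr
    have := hres _ he
    obtain ⟨⟨⟨⟨⟨⟨heP, heP'⟩, hstep⟩, hsp2⟩, hsP⟩, hsP'⟩, hwt⟩ := this
    have hzz : ∀ x ∈ killP ++ z ++ [71], g' x = 0 := fun x hx => by
      simp only [List.mem_append] at hx
      rcases hx with (h | h) | h
      exacts [ek x h, hze x h, e71 x h]
    have b1 : q * 1 ≤ C.mf (killP ++ [46, 71]) g' := by
      refine le_trans (Nat.mul_le_mul_right 1 ?_) (C.cell_bound (st := [(r, s)]) le_rfl hsp2 hstep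
        (List.all_eq_true.2 fun x hx => ?_) (List.all_eq_true.2 fun p hp => ?_) hzz e71 hge hg')
      · simp only [List.map_cons, List.map_nil, wsum, List.sum_cons, List.sum_nil, add_zero]
        exact Nat.le_self_pow (Nat.one_le_iff_ne_zero.1 hwt) q
      · simp only [Bool.and_eq_true, decide_eq_true_eq]
        rcases List.mem_append.1 hx with hx | hx
        · exact ⟨by simp [hx], hkP2 x hx⟩
        · simp only [List.mem_cons, List.not_mem_nil, or_false] at hx
          rcases hx with rfl | rfl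
          exacts [⟨by simp, by decide⟩, ⟨by simp, by decide⟩]
      · simp [List.mem_singleton.1 hp, hsP, hsP']
    rw [mul_one] at b1
    have b2 := C.cell_bound (P := killP ++ [46, 71]) (P' := [46, 71]) (c0 := q) C.hq.pos hspk hkill1
      (by decide +kernel) (by decide +kernel) e71 e71 (by rw [e46]; exact hb) b1
    rw [hw] at b2
    have b3 : C.mf [46, 71] g' ≤ C.mf [71] (fun _ => 0) :=
      C.mf_mono fun x hx => ⟨List.mem_cons_of_mem _ hx, e71 x hx⟩
    have := (bnd_facts q h.q2).2.1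
    have := h.lt
    have e11 : q ^ 11 = q ^ 9 * q + (q - 1) * q ^ 10 := by
      obtain ⟨w, hw'⟩ : ∃ w, q = w + 1 := ⟨q - 1, by have := h.q2; omega⟩
      subst hw'
      rw [Nat.add_sub_cancel]; ring
    omega
  push Not at hr
  refine hg'.trans (le_of_eq (C.mf_congr (fun _ => Iff.rfl) fun x hx => ?_))
  rcases hcov x hx with hh | hh | hh
  · simp only [List.mem_cons, List.not_mem_nil, or_false] at hh
    rcases hh with rfl | rfl
    · rw [e46, dlt_self]
    · rw [e71 71 (by simp), dlt_ne (by decide)]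
  · rw [ek x hh, dlt_ne]
    intro e
    rw [e] at hh
    exact absurd hh (by decide)
  · obtain ⟨e, he, hxe⟩ := List.mem_flatMap.1 hh
    rw [part e he (hr e he) x hxe, dlt_ne]
    intro e'
    rw [e'] at hxe
    have : ∀ e ∈ res, (46 : R) ∉ orb e.1 := by decide +kernel
    exact this e he hxe

theorem radical : C.mf P2 (fun _ => (0 : F)) + cellsTotal q cells2 ≤ C.mf [71] (fun _ => 0) ∧
    ∀ b : F, b ≠ 0 → b ^ q = b → C.mf P2 (dlt 46 b) = 1 := by
  classical
  have hc := rad_cert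
  simp only [radB, Bool.and_eq_true, decide_eq_true_eq, List.all_eq_true, Bool.or_eq_true] at hc
  obtain ⟨⟨⟨⟨⟨⟨-, hpath⟩, hcells⟩, hsame⟩, hlong⟩, h46⟩, -⟩ := hc
  have run : ∀ c0, 1 ≤ c0 → (∀ b : F, b ≠ 0 → b ^ q = b → c0 ≤ C.mf P2 (dlt 46 b)) →
      C.mf P2 (fun _ => (0 : F)) + c0 * cellsTotal q cells2 ≤ C.mf [71] (fun _ => 0) := by
    intro c0 hc0 hb
    have hall := C.path_spec path [46] hpath (fun x hx => by rw [List.mem_singleton.1 hx]; exact hb)
    have := C.cells_spec hc0 cells2 [] hcells fun e he hsm b hb0 hb' =>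
      ⟨dlt e.1 b, dlt_self _ _, fun x _ hx => dlt_ne (fun h => hx (by simp [h])) b,
        hall e.1 ((hlong e he).resolve_left fun hn => hn hsm) b hb0 hb'⟩
    rw [C.mf_congr (P' := P2) (sameB_iff hsame) (fun _ _ => rfl), List.nil_append] at this
    exact this
  refine ⟨by simpa using run 1 le_rfl h.single, fun b hb hb' => le_antisymm ?_ (h.single b hb hb')⟩
  by_contra hlt
  obtain ⟨⟨r, r', c, d⟩, l, hp⟩ : ∃ e l, path = e :: l := ⟨_, _, rfl⟩
  have hc46 : c = 46 := by
    have e0 : path.head? = some (r, r', c, d) := by rw [hp]; rfl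
    have e1 : path.head? = some (32, 39, 46, 47) := by decide +kernel
    rw [e1, Option.some.injEq] at e0
    exact (congrArg (fun e : R × R × R × R => e.2.2.1) e0).symm
  rw [hp, hc46] at hpath
  have := run 2 (by norm_num) fun b' hb0 hb1 => C.rescale hpath hb hb' (by omega) hb0 hb1
  have := (bnd_facts q h.q2).2.2
  have := h.center.1
  have := h.lt
  omega

theorem exists_v {b : F} (hb : b ≠ 0) (hb' : b ^ q = b) :
    ∃ v : Fin k → ℂ, v ≠ 0 ∧ v ∈ C.eig pos (dlt 46 b) := by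
  obtain ⟨v, hv0, hv⟩ := finrank_eq_one_iff'.1 (h.radical.2 b hb hb')
  refine ⟨v, fun e => hv0 (Subtype.ext e), ?_⟩
  have hc := pos_cert
  simp only [posB, Bool.and_eq_true, Bool.or_eq_true, decide_eq_true_eq, List.all_eq_true, List.any_eq_true] at hc
  obtain ⟨hst, hcov⟩ := hc
  have hfix : ∀ e ∈ stab, ∀ y : F, C.ρ (C.yy e.1 y) (v : Fin k → ℂ) = (v : Fin k → ℂ) := by
    rintro ⟨b', r, s⟩ he y
    have := hst _ he
    simp only [stabB, Bool.and_eq_true, decide_eq_true_eq, nng_eq, List.all_eq_true] at this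
    obtain ⟨⟨⟨⟨⟨⟨⟨⟨⟨h1, h2⟩, h3⟩, h4⟩, h5⟩, hent⟩, hcm⟩, hr⟩, hs⟩, hnb⟩ := this
    rcases e : ent chevE6 r s with _ | ⟨c, z⟩
    · rw [e] at hent; simp at hent
    rw [e] at hent
    obtain rfl : c = b' := of_decide_eq_true hent
    have hz : (z : F) ≠ 0 := cast_sign_ne_zero (ent_some sldE6 e).2
    have scal : ∀ x : R, stableB P2 [71] x = true → (∀ p ∈ P2, ∀ w ∈ nbrs x p, w ≠ 46) →
        ∀ t, ∃ l : ℂ, C.ρ (C.yy x t) (v : Fin k → ℂ) = l • (v : Fin k → ℂ) := by
      intro x hx hnx t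
      have hm := C.move_mem hx (t := t) (fun z hz => by
        rw [List.mem_singleton.1 hz]; exact dlt_ne (by decide) b) v.2
      have hm' : C.ρ (C.yy x t) (v : Fin k → ℂ) ∈ C.eig P2 (dlt 46 b) := fun p hp w => by
        rw [hm p hp w, mvY_fixed (Z := nbrs x p) (fun y hy => hy) t fun y hy => dlt_ne (hnx p hp y hy) b]
      obtain ⟨l, hl⟩ := hv ⟨_, hm'⟩
      exact ⟨l, (congrArg Subtype.val hl).symm⟩
    set t : F := -(y / (z : F))
    obtain ⟨l, hl⟩ := scal r hr (fun p hp w hw => (hnb p hp).1 w hw) t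
    obtain ⟨m, hm⟩ := scal s hs (fun p hp w hw => (hnb p hp).2 w hw) 1
    set g := EE C.hq C.hK r t
    have hW : g⁻¹ * XX s 1 * g = prodW [(s, (1 : F)), (c, y)] := by
      have e1 := conj_cj (r := r) t (s, (1 : F)) h1
      have e2 := conj_word (r := sg r) ((ee r : F) * t ^ q) (cj r t (s, (1 : F))) (by
        intro p hp
        simp only [cj, e, List.mem_cons, List.not_mem_nil, or_false] at hp
        rcases hp with rfl | rfl
        exacts [h2, h3])
      have hcj : cj r t (s, (1 : F)) = [(s, 1), (c, y)] := by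
        simp only [cj, e]
        congr 3
        simp only [t]; field_simp
      rw [← e1] at e2
      rw [hcj] at e2
      have hflat : [(s, (1 : F)), (c, y)].flatMap (cj (sg r) ((ee r : F) * t ^ q)) = [(s, 1), (c, y)] := by
        simp [cj, h4, h5]
      rw [hflat] at e2
      rw [← e2]
      simp only [g, EE, sig_X]
      group
    have key : g⁻¹ * EE C.hq C.hK s 1 * g = EE C.hq C.hK s 1 * EE C.hq C.hK c y := by
      have := C.regroup [(s, (1 : F)), (c, y)] hcm
      simp only [List.map_cons, List.map_nil, List.prod_cons, List.prod_nil, mul_one] at this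
      rw [← this, ← hW, map_mul, map_mul, map_inv, show sig C.hq C.hK g = g from EE_fix C.hq C.hK r t,
        show EE C.hq C.hK s 1 = XX s 1 * sig C.hq C.hK (XX s 1) from rfl]
      group
    have hY : C.yy c y = (C.yy s 1)⁻¹ * ((C.yy r t)⁻¹ * C.yy s 1 * C.yy r t) := by
      apply Subtype.ext
      show EE C.hq C.hK c y = (EE C.hq C.hK s 1)⁻¹ * (g⁻¹ * EE C.hq C.hK s 1 * g)
      rw [key]; group
    have comm : C.ρ (C.yy r t) (C.ρ (C.yy s 1) (v : Fin k → ℂ)) = C.ρ (C.yy s 1) (C.ρ (C.yy r t) v) := by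
      rw [hl, hm, map_smul, map_smul, hl, hm, smul_comm]
    rw [hY, C.apply_mul, mul_assoc, C.apply_mul, C.apply_mul, ← comm, C.apply_inv_self, C.apply_inv_self]
  intro x hx u
  rcases hcov x hx with hx' | ⟨hne, e, he, hxe⟩
  · exact v.2 x hx' u
  rw [dlt_ne hne, zero_mul, AddChar.map_zero_eq_one, one_smul]
  simp only [orb, List.mem_cons, List.not_mem_nil, or_false] at hxe
  rcases hxe with rfl | rfl
  · exact hfix e he u
  · obtain ⟨h1, -⟩ := sg_facts e.1
    have : C.yy (sg e.1) u = C.yy e.1 ((ee (sg e.1) : F) * u ^ q) := by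
      refine Subtype.ext ?_
      show EE C.hq C.hK (sg e.1) u = _
      rw [← EE_sg C.hq C.hK (sg e.1) u, h1]
      rfl
    rw [this]
    exact hfix e he _

/-- some character of `α₄` alone occurs on the positive roots -/
theorem gap : ∃ b : F, b ≠ 0 ∧ b ^ q = b ∧ 1 ≤ C.mf pos (dlt 39 b) := by
  classical
  have hg := gap_cert
  simp only [gapB, Bool.and_eq_true] at hg
  obtain ⟨⟨⟨⟨⟨⟨-, hO⟩, hN⟩, hspN⟩, hsameN⟩, hspO⟩, hsameO⟩ := hg
  have h46 : sg (46 : R) = 46 := by decide +kernel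
  have h39 : sg (39 : R) = 39 := by decide +kernel
  have base : C.mf pos (fun _ => (0 : F)) + (q - 1) ≤ C.mf halfN.P (fun _ => 0) := by
    rw [C.split_one hspN (fun _ _ => rfl), ← Finset.add_sum_erase _ _ (mem_adm.2 fun _ => zero_pow C.hq.pos.ne'),
      updO_zero_zero C.hq, C.mf_congr (P := orb 46 ++ halfN.P) (P' := pos) (sameB_iff hsameN) (fun _ _ => rfl)]
    refine Nat.add_le_add_left ?_ _
    calc q - 1 = ∑ _a ∈ (adm q (46 : R) : Finset F).erase 0, 1 := by
          rw [Finset.sum_const, card_adm_erase C.hq C.hK h46, smul_eq_mul, mul_one]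
      _ ≤ _ := Finset.sum_le_sum fun a ha => by
        obtain ⟨h0, h1⟩ := Finset.mem_erase.1 ha
        rw [updO_small_zero h46, C.mf_congr (P := orb 46 ++ halfN.P) (P' := pos) (sameB_iff hsameN) (fun _ _ => rfl)]
        obtain ⟨v, hv0, hv⟩ := h.exists_v h0 (mem_adm.1 h1 h46)
        exact Submodule.one_le_finrank_iff.2 fun e => hv0 ((Submodule.mem_bot ℂ).1 (e ▸ hv))
  rw [← C.pair_fix_eq hO hN rfl rfl] at base
  rw [C.split_one hspO (fun _ _ => rfl), ← Finset.add_sum_erase _ _ (mem_adm.2 fun _ => zero_pow C.hq.pos.ne'),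
    updO_zero_zero C.hq, C.mf_congr (P := orb 39 ++ halfO.P) (P' := pos) (sameB_iff hsameO) (fun _ _ => rfl)] at base
  have := h.q2
  obtain ⟨a, ha, ha'⟩ : ∃ a ∈ (adm q (39 : R) : Finset F).erase 0,
      C.mf (orb 39 ++ halfO.P) (updO q (fun _ => (0 : F)) 39 a) ≠ 0 :=
    Finset.exists_ne_zero_of_sum_ne_zero (by omega)
  obtain ⟨h0, h1⟩ := Finset.mem_erase.1 ha
  refine ⟨a, h0, mem_adm.1 h1 h39, ?_⟩
  rw [updO_small_zero h39, C.mf_congr (P' := pos) (sameB_iff hsameO) (fun _ _ => rfl)] at ha'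
  omega

theorem middle : cellsTotal q cells3 ≤ C.mf P2 (fun _ => (0 : F)) := by
  classical
  have hc := mid_cert
  simp only [midB, Bool.and_eq_true, Bool.or_eq_true, decide_eq_true_eq, List.all_eq_true, List.any_eq_true] at hc
  obtain ⟨⟨⟨⟨⟨hcells, hlong⟩, hmov⟩, h39P⟩, hpos⟩, h39s⟩ := hc
  have h39 : sg (39 : R) = 39 := by decide +kernel
  obtain ⟨b0, hb0, hb0q, hgap⟩ := h.gap
  have hP : 1 ≤ C.mf (R3 ++ P2) (dlt 39 b0) :=
    hgap.trans (C.mf_mono fun s hs => ⟨hpos s hs, rfl⟩)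
  have base : ∀ b : F, b ≠ 0 → b ^ q = b → 1 ≤ C.mf (R3 ++ P2) (dlt 39 b) := by
    intro b hb hbq
    obtain ⟨t, ht, hte⟩ := exists_norm C.hq C.hK (v := b / b0) (by rw [div_pow, hbq, hb0q]) (div_ne_zero hb hb0)
    refine hP.trans ((C.mf_torus _ _ (Units.mk0 t ht)).trans (le_of_eq (C.mf_congr (fun _ => Iff.rfl) fun s _ => ?_)))
    by_cases hs : s = 39
    · subst hs
      rw [dlt_self, dlt_self, TCtx.sc39, inv_inv, Units.val_mk0, hte, mul_div_cancel₀ _ hb0]
    · rw [dlt_ne hs, dlt_ne hs, zero_mul]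
  have := C.cells_spec le_rfl cells3 [] hcells fun e he hsm b hb hbq => ?_
  · rw [one_mul, List.nil_append] at this
    omega
  rcases (hlong e he) with (hn | h39e) | ⟨⟨u, r⟩, hur, hu⟩
  · exact absurd hsm hn
  · refine ⟨dlt 39 b, by rw [h39e, dlt_self], fun x _ hx => dlt_ne (fun h => hx ?_) b, base b hb hbq⟩
    rw [h39e, h]; exact h39s
  · obtain rfl : u = e.1 := hu
    have := hmov _ hur
    simp only [movB, Bool.and_eq_true, decide_eq_true_eq, List.all_eq_true, Bool.or_eq_true] at this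
    obtain ⟨⟨⟨⟨⟨hst, huR⟩, hu39⟩, hent⟩, hent'⟩, hsup⟩ := this
    rcases e1 : ent chevE6 r e.1 with _ | ⟨c, z⟩
    · rw [e1] at hent; simp at hent
    rw [e1] at hent
    simp only [Bool.and_eq_true, decide_eq_true_eq] at hent
    obtain ⟨hc39, hent⟩ := hent
    rcases e2 : ent chevE6 (sg r) c with _ | ⟨d, z2⟩
    · rw [e2] at hent; simp at hent
    rw [e2] at hent
    obtain rfl : d = 39 := of_decide_eq_true hent
    have hval : ∀ t : F, mvY q r t (dlt 39 1) e.1 = ((z : F) * (z2 : F) * (ee r : F)) * t ^ (q + 1) := by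
      intro t
      rcases e3 : ent chevE6 (sg r) e.1 with _ | ⟨c', z'⟩
      · rw [mvY, Ctx.mvf_some e1, Ctx.mvf_some e2, Ctx.mvf_none e3, dlt_ne hu39, dlt_ne hc39, dlt_self]; ring
      · rw [e3] at hent'
        rw [mvY, Ctx.mvf_some e1, Ctx.mvf_some e2, Ctx.mvf_some e3, dlt_ne hu39, dlt_ne hc39, dlt_self,
          dlt_ne (of_decide_eq_true hent')]; ring
    set K : F := (z : F) * (z2 : F) * (ee r : F)
    have hK0 : K ≠ 0 := mul_ne_zero (mul_ne_zero (cast_sign_ne_zero (ent_some sldE6 e1).2)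
      (cast_sign_ne_zero (ent_some sldE6 e2).2)) (cast_sign_ne_zero (sg_facts r).2.2.1)
    have hKq : K ^ q = K := by rw [mul_pow, mul_pow, q_int C.hq C.hK, q_int C.hq C.hK, q_int C.hq C.hK]
    obtain ⟨t, -, hte⟩ := exists_norm C.hq C.hK (v := b / K) (by rw [div_pow, hbq, hKq]) (div_ne_zero hb hK0)
    refine ⟨mvY q r t (dlt 39 1), by rw [hval, hte, mul_div_cancel₀ _ hK0], fun x hx hxs => ?_,
      (base 1 one_ne_zero (one_pow q)).trans (C.mf_le_mvY hst t fun z hz => dlt_ne (fun e : z = 39 => h39P (e ▸ hz)) 1)⟩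
    obtain ⟨hx39, hnb⟩ := (hsup x hx).resolve_left hxs
    rw [mvY_fixed (Z := nbrs r x) (fun y hy => hy) t fun y hy => dlt_ne (hnb y hy) 1, dlt_ne hx39]

/-- the degree is at most two below the bound -/
theorem lower : bnd q ≤ k + 2 := by
  have h0 := h.center.1
  have h1 := h.radical.1
  have := (bnd_facts q h.q2).1
  have := h.middle
  omega

end Small

end Cfsg.Agent.TwE6Deg54
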