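import Cfsg.Agent.Chev54.TwE6Deg.Base

/-!
Conjugation of orbit elements by orbit elements, and the transport of joint eigenvectors.
-/

set_option autoImplicit false
set_option linter.unusedSectionVars false

noncomputable section

namespace Cfsg.Agent.TwE6Deg54

open Cfsg.Lie Cfsg.Agent.ChevCore Cfsg.Agent.KnownSimple.Steinberg Cfsg.Agent.RootMove54 Cfsg.Agent.ChevGroup

universe u

/-- roots of the conjugate of a root element -/
def img (r x : R) : List R :=
  match ent chevE6 r x with
  | none => [x]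
  | some (c, _) => [x, c]

/-- roots of the conjugate by an orbit element -/
def wds (r s : R) : List R := (img r s).flatMap (img (sg r))

/-- two root groups commute -/
def cmB (a b : R) : Bool := decide (b.val ≠ nng chevE6 a.val) && decide (ent chevE6 a b = none)

/-- a word can be regrouped into orbit elements -/
def cmL : List R → Bool
  | [] => true
  | x :: l => (l.all fun y => cmB (sg x) y) && cmL l

/-- the word of `s` under `r` lies in `P` and regroups -/
def plainB (P : List R) (r s : R) : Bool :=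
  decide (s.val ≠ nng chevE6 r.val) && ((img r s).all fun x => decide (x.val ≠ nng chevE6 (sg r).val)) &&
    ((wds r s).all fun x => decide (x ∈ P)) && cmL (wds r s)

/-- the word of `s` under `r` regroups up to a root in `Z` -/
def defectB (P Z : List R) (r s : R) : Bool :=
  decide (sg r = r) && decide (s.val ≠ nng chevE6 r.val) && decide (s ∈ P) &&
    match ent chevE6 r s with
    | none => false
    | some (c, _) => decide (c ∈ P) && decide (ent chevE6 r c = none) && decide (c.val ≠ nng chevE6 (sg s).val) &&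
      match ent chevE6 (sg s) c with
      | none => false
      | some (d, _) => decide (d ∈ Z) && decide (d ∈ P) && decide (sg d = d) && cmB d (sg c)

/-- `r` moves the characters of `P` among themselves, quadratic terms lying in `Z` -/
def stableB (P Z : List R) (r : R) : Bool := P.all fun s => plainB P r s || defectB P Z r s

variable {F : Type u} [Field F] [Fintype F] {q : ℕ} (hq : IsPrimePow q) (hK : Fintype.card F = q ^ 2)

/-- one conjugation of a letter -/
def cj (r : R) (t : F) (p : R × F) : List (R × F) :=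
  match ent chevE6 r p.1 with
  | none => [p]
  | some (c, z) => [p, (c, -((z : F) * t * p.2))]

/-- product of a word -/
def prodW (L : List (R × F)) : ↥(chevE6.group F) := (L.map fun p => XX p.1 p.2).prod

/-- the pairing of a character with a word -/
def lsum (f : R → F) (L : List (R × F)) : F := (L.map fun p => f p.1 * p.2).sum

/-- the effect of an orbit element on characters -/
def mvY (q : ℕ) (r : R) (t : F) (f : R → F) : R → F :=
  Ctx.mvf r t (Ctx.mvf (sg r) ((ee r : F) * t ^ q) f)

theorem cj_fst (r : R) (t : F) (p : R × F) : (cj r t p).map Prod.fst = img r p.1 := by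
  unfold cj img
  rcases ent chevE6 r p.1 with _ | ⟨c, z⟩ <;> rfl

theorem conj_cj {r : R} (t : F) (p : R × F) (h : p.1.val ≠ chevE6.neg r.val) :
    (XX r t)⁻¹ * XX p.1 p.2 * XX r t = prodW (cj r t p) := by
  unfold cj
  rcases e : ent chevE6 r p.1 with _ | ⟨c, z⟩
  · simpa [prodW] using X_comm sldE6 r p.1 h e t p.2
  · simpa [prodW] using X_conj sldE6 r p.1 c e t p.2

theorem conj_word {r : R} (t : F) (L : List (R × F)) (h : ∀ p ∈ L, p.1.val ≠ chevE6.neg r.val) :
    (XX r t)⁻¹ * prodW L * XX r t = prodW (L.flatMap (cj r t)) := by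
  induction L with
  | nil => simp [prodW]
  | cons p L ih =>
    have e : prodW ((p :: L).flatMap (cj r t)) = prodW (cj r t p) * prodW (L.flatMap (cj r t)) := by
      simp [prodW]
    rw [e, ← conj_cj t p (h p List.mem_cons_self), ← ih fun x hx => h x (List.mem_cons_of_mem _ hx)]
    simp only [prodW, List.map_cons, List.prod_cons]
    group

theorem lsum_flat (r : R) (t : F) (f : R → F) (L : List (R × F)) :
    lsum f (L.flatMap (cj r t)) = lsum (Ctx.mvf r t f) L := by
  induction L with
  | nil => simp [lsum]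
  | cons p L ih =>
    simp only [lsum, List.flatMap_cons, List.map_append, List.sum_append, List.map_cons, List.sum_cons] at ih ⊢
    rw [ih]
    congr 1
    unfold cj
    rcases e : ent chevE6 r p.1 with _ | ⟨c, z⟩
    · simp [Ctx.mvf_none e]
    · simp [Ctx.mvf_some e]; ring

/-- a representation of the twisted group with a character invariant under the Frobenius map -/
structure TCtx (F : Type u) [Field F] [Fintype F] (q k : ℕ) where
  hq : IsPrimePow q
  hK : Fintype.card F = q ^ 2
  ρ : Representation ℂ ↥(G₁ F q) (Fin k → ℂ)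
  ψ : AddChar F ℂ
  hψ : ψ.IsPrimitive
  frob : ∀ v, ψ (v ^ q) = ψ v

namespace TCtx

variable {k : ℕ} (C : TCtx F q k)

/-- orbit element -/
abbrev yy (r : R) (t : F) : ↥(G₁ F q) := Y C.hq C.hK r t

/-- joint eigenspace -/
def eig (P : List R) (f : R → F) : Submodule ℂ (Fin k → ℂ) where
  carrier := {x | ∀ s ∈ P, ∀ u : F, C.ρ (C.yy s u) x = C.ψ (f s * u) • x}
  add_mem' {x y} hx hy s hs u := by rw [map_add, hx s hs u, hy s hs u, smul_add]
  zero_mem' s _ u := by rw [map_zero, smul_zero]
  smul_mem' c x hx s hs u := by rw [map_smul, hx s hs u, smul_comm]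

theorem mem_eig {P : List R} {f : R → F} {x : Fin k → ℂ} :
    x ∈ C.eig P f ↔ ∀ s ∈ P, ∀ u : F, C.ρ (C.yy s u) x = C.ψ (f s * u) • x := Iff.rfl

/-- multiplicity -/
def mf (P : List R) (f : R → F) : ℕ := Module.finrank ℂ ↥(C.eig P f)

theorem apply_mul (g h : ↥(G₁ F q)) (x : Fin k → ℂ) : C.ρ (g * h) x = C.ρ g (C.ρ h x) := by
  rw [map_mul]; rfl

theorem apply_inv_self (g : ↥(G₁ F q)) (x : Fin k → ℂ) : C.ρ g⁻¹ (C.ρ g x) = x := by
  rw [← apply_mul, inv_mul_cancel, map_one]; rfl

theorem apply_self_inv (g : ↥(G₁ F q)) (x : Fin k → ℂ) : C.ρ g (C.ρ g⁻¹ x) = x := by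
  rw [← apply_mul, mul_inv_cancel, map_one]; rfl

/-- an element of the Chevalley group lying in the group and acting on `x` by `ψ a` -/
def Acts (x : Fin k → ℂ) (h : ↥(chevE6.group F)) (a : F) : Prop :=
  ∃ hm : h ∈ G₁ F q, C.ρ ⟨h, hm⟩ x = C.ψ a • x

theorem acts_mul {x : Fin k → ℂ} {g h : ↥(chevE6.group F)} {a b : F} (hg : C.Acts x g a)
    (hh : C.Acts x h b) : C.Acts x (g * h) (a + b) := by
  obtain ⟨mg, eg⟩ := hg
  obtain ⟨mh, eh⟩ := hh
  refine ⟨mul_mem mg mh, ?_⟩
  rw [show (⟨g * h, mul_mem mg mh⟩ : ↥(G₁ F q)) = ⟨g, mg⟩ * ⟨h, mh⟩ from rfl, C.apply_mul, eh, map_smul,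
    eg, smul_smul, AddChar.map_add_eq_mul, mul_comm]

theorem acts_EE {P : List R} {f : R → F} {x : Fin k → ℂ} (hx : x ∈ C.eig P f) {s : R} (hs : s ∈ P)
    (u : F) : C.Acts x (EE C.hq C.hK s u) (f s * u) := ⟨(C.yy s u).2, hx s hs u⟩

theorem acts_list {P : List R} {f : R → F} {x : Fin k → ℂ} (hx : x ∈ C.eig P f) (L : List (R × F))
    (hL : ∀ p ∈ L, p.1 ∈ P) : C.Acts x (L.map fun p => EE C.hq C.hK p.1 p.2).prod (lsum f L) := by
  induction L with
  | nil =>
    refine ⟨one_mem _, ?_⟩
    show C.ρ 1 x = _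
    simp [lsum]
  | cons p L ih =>
    simp only [lsum, List.map_cons, List.prod_cons, List.sum_cons]
    exact C.acts_mul (C.acts_EE hx (hL p List.mem_cons_self) p.2) (ih fun y hy => hL y (List.mem_cons_of_mem _ hy))

theorem regroup (L : List (R × F)) (h : cmL (L.map Prod.fst) = true) :
    prodW L * sig C.hq C.hK (prodW L) = (L.map fun p => EE C.hq C.hK p.1 p.2).prod := by
  induction L with
  | nil => simp [prodW]
  | cons p L ih =>
    simp only [List.map_cons, cmL, Bool.and_eq_true, List.all_eq_true] at h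
    have hc : Commute (prodW L) (sig C.hq C.hK (XX p.1 p.2)) := by
      refine Commute.list_prod_left _ _ fun y hy => ?_
      obtain ⟨s, hs, rfl⟩ := List.mem_map.1 hy
      have := h.1 s.1 (List.mem_map_of_mem hs)
      simp only [cmB, Bool.and_eq_true, decide_eq_true_eq, nng_eq] at this
      rw [sig_X]
      exact (X_commute this.1 this.2 _ _).symm
    simp only [prodW, List.map_cons, List.prod_cons, map_mul] at hc ih ⊢
    rw [← ih h.2, EE, hc.mul_mul_mul_comm]

theorem conj_plain {P : List R} {r s : R} (h : plainB P r s = true) (t u : F) {f : R → F}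
    {x : Fin k → ℂ} (hx : x ∈ C.eig P f) :
    C.Acts x ((EE C.hq C.hK r t)⁻¹ * EE C.hq C.hK s u * EE C.hq C.hK r t) (mvY q r t f s * u) := by
  simp only [plainB, Bool.and_eq_true, List.all_eq_true, decide_eq_true_eq, nng_eq] at h
  obtain ⟨⟨⟨h1, h2⟩, h3⟩, h4⟩ := h
  set g := EE C.hq C.hK r t with hg
  set W := (cj r t (s, u)).flatMap (cj (sg r) ((ee r : F) * t ^ q)) with hWdef
  have hW : g⁻¹ * XX s u * g = prodW W := by
    rw [hWdef, ← conj_word, ← conj_cj t (s, u) h1, hg, EE, sig_X]
    · group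
    · intro p hp
      refine h2 p.1 ?_
      have := List.mem_map_of_mem (f := Prod.fst) hp
      rwa [cj_fst] at this
  have hfst : W.map Prod.fst = wds r s := by
    rw [hWdef, wds, List.map_flatMap, show img r s = (cj r t (s, u)).map Prod.fst from (cj_fst r t (s, u)).symm,
      List.flatMap_map]
    simp only [cj_fst]
  have hfix : sig C.hq C.hK g = g := EE_fix C.hq C.hK r t
  have key : g⁻¹ * EE C.hq C.hK s u * g = (W.map fun p => EE C.hq C.hK p.1 p.2).prod := by
    rw [← C.regroup W (by rw [hfst]; exact h4), ← hW, map_mul, map_mul, map_inv, hfix, EE]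
    group
  have hsum : lsum f W = mvY q r t f s * u := by
    rw [hWdef, lsum_flat, mvY]
    have := lsum_flat r t (Ctx.mvf (sg r) ((ee r : F) * t ^ q) f) [(s, u)]
    simp only [List.flatMap_cons, List.flatMap_nil, List.append_nil] at this
    rw [this]
    simp [lsum]
  rw [key, ← hsum]
  refine C.acts_list hx W fun p hp => h3 p.1 ?_
  rw [← hfst]
  exact List.mem_map_of_mem hp

theorem conj_defect {P Z : List R} {r s : R} (h : defectB P Z r s = true) (t u : F) {f : R → F}
    (hZ : ∀ z ∈ Z, f z = 0) {x : Fin k → ℂ} (hx : x ∈ C.eig P f) :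
    C.Acts x ((EE C.hq C.hK r t)⁻¹ * EE C.hq C.hK s u * EE C.hq C.hK r t) (mvY q r t f s * u) := by
  simp only [defectB, Bool.and_eq_true, decide_eq_true_eq, nng_eq] at h
  obtain ⟨⟨⟨hr, hsn⟩, hsP⟩, h⟩ := h
  rcases e : ent chevE6 r s with _ | ⟨c, z⟩
  · rw [e] at h; simp at h
  rw [e] at h
  simp only [Bool.and_eq_true, decide_eq_true_eq, nng_eq] at h
  obtain ⟨⟨⟨hcP, hrc⟩, hcn⟩, h⟩ := h
  rcases e2 : ent chevE6 (sg s) c with _ | ⟨d, z2⟩
  · rw [e2] at h; simp at h
  rw [e2] at h
  simp only [Bool.and_eq_true, decide_eq_true_eq, cmB, nng_eq] at h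
  obtain ⟨⟨⟨hdZ, hdP⟩, hd⟩, hdc⟩ := h
  set g := EE C.hq C.hK r t with hg
  set w : F := -((z : F) * (t + t ^ q) * u)
  have hfix : sig C.hq C.hK g = g := EE_fix C.hq C.hK r t
  have hW : g⁻¹ * XX s u * g = XX s u * XX c w := by
    rw [hg, EE_small C.hq C.hK hr]
    exact X_conj sldE6 r s c e _ u
  have hs : sig C.hq C.hK (XX s u) = XX (sg s) ((ee s : F) * u ^ q) := sig_X C.hq C.hK s u
  set v : F := -((z2 : F) * ((ee s : F) * u ^ q) * w)
  have h3 : (sig C.hq C.hK (XX s u))⁻¹ * XX c w * sig C.hq C.hK (XX s u) = XX c w * XX d v := by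
    rw [hs]; exact X_conj sldE6 (sg s) c d e2 _ w
  have h4 : Commute (XX d v) (sig C.hq C.hK (XX c w)) := by
    rw [sig_X]
    exact X_commute hdc.1 hdc.2 _ _
  have key : g⁻¹ * EE C.hq C.hK s u * g = EE C.hq C.hK s u * EE C.hq C.hK c w * XX d v := by
    calc g⁻¹ * EE C.hq C.hK s u * g = (g⁻¹ * XX s u * g) * sig C.hq C.hK (g⁻¹ * XX s u * g) := by
          rw [map_mul, map_mul, map_inv, hfix, EE]; group
      _ = XX s u * XX c w * (sig C.hq C.hK (XX s u) * sig C.hq C.hK (XX c w)) := by rw [hW, map_mul]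
      _ = EE C.hq C.hK s u * ((sig C.hq C.hK (XX s u))⁻¹ * XX c w * sig C.hq C.hK (XX s u)) *
          sig C.hq C.hK (XX c w) := by rw [EE]; group
      _ = _ := by rw [h3, EE, EE]; simp only [mul_assoc]; rw [h4.eq]
  have hmem : XX d v ∈ G₁ F q := by
    have e : XX d v = (EE C.hq C.hK s u * EE C.hq C.hK c w)⁻¹ * (g⁻¹ * EE C.hq C.hK s u * g) := by
      rw [key]; group
    rw [e]
    exact mul_mem (inv_mem (mul_mem (C.yy s u).2 (C.yy c w).2))
      (mul_mem (mul_mem (inv_mem (C.yy r t).2) (C.yy s u).2) (C.yy r t).2)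
  obtain ⟨y, hy⟩ := small_mem C.hq C.hK hd hmem
  rw [key, hy, show mvY q r t f s * u = f s * u + f c * w + f d * y by
    simp only [mvY, hr, (sg_facts r).2.2.2.2.2.2 hr, Ctx.mvf_some e, Ctx.mvf_none hrc, hZ d hdZ, w]
    push_cast; ring]
  exact C.acts_mul (C.acts_mul (C.acts_EE hx hsP u) (C.acts_EE hx hcP w)) (C.acts_EE hx hdP y)

theorem conj_stable {P Z : List R} {r : R} (h : stableB P Z r = true) {s : R} (hs : s ∈ P) (t u : F)
    {f : R → F} (hZ : ∀ z ∈ Z, f z = 0) {x : Fin k → ℂ} (hx : x ∈ C.eig P f) :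
    C.ρ ((C.yy r t)⁻¹ * C.yy s u * C.yy r t) x = C.ψ (mvY q r t f s * u) • x := by
  have := List.all_eq_true.1 h s hs
  rw [Bool.or_eq_true] at this
  rcases this with h' | h'
  · exact (C.conj_plain h' t u hx).2
  · exact (C.conj_defect h' t u hZ hx).2

/-- transport of a joint eigenvector -/
theorem move_mem {P Z : List R} {r : R} (h : stableB P Z r = true) {t : F} {f : R → F}
    (hZ : ∀ z ∈ Z, f z = 0) {x : Fin k → ℂ} (hx : x ∈ C.eig P f) :
    C.ρ (C.yy r t) x ∈ C.eig P (mvY q r t f) := by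
  intro s hs u
  have key := C.conj_stable h hs t u hZ hx
  rw [mul_assoc, C.apply_mul (C.yy r t)⁻¹, C.apply_mul] at key
  have e2 := congrArg (C.ρ (C.yy r t)) key
  rwa [apply_self_inv, map_smul] at e2

theorem mf_le_mvY {P Z : List R} {r : R} (h : stableB P Z r = true) (t : F) {f : R → F}
    (hZ : ∀ z ∈ Z, f z = 0) : C.mf P f ≤ C.mf P (mvY q r t f) := by
  refine LinearMap.finrank_le_finrank_of_injective
    (f := (C.ρ (C.yy r t)).restrict (p := C.eig P f) (q := C.eig P (mvY q r t f))
      fun x hx => C.move_mem h hZ hx) ?_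
  intro x y e
  exact Subtype.ext (Function.LeftInverse.injective (C.apply_inv_self _) (congrArg Subtype.val e))

end TCtx

end Cfsg.Agent.TwE6Deg54
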